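import Mathlib
import Groth.Prelude.Def_Hens2
import Groth.Agent.Lib.Helper7.Hens.Abstract

namespace H9HW
open Polynomial
universe u

theorem henselianRing_bot (R : Type*) [CommRing R] : HenselianRing R (⊥ : Ideal R) where
  jac := bot_le
  is_henselian f _ a₀ h₁ _ := ⟨a₀, by simpa using h₁, by simp⟩

section
variable {R : Type u} [CommRing R] {B : Type u} [CommRing B] [Algebra R B] [Algebra R[X] B]
  [IsScalarTower R R[X] B]

theorem map_span_X_pow (n : ℕ) :
    ((Ideal.span {(X : R[X])}) ^ n).map (algebraMap R[X] B) =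
      Ideal.span {(algebraMap R[X] B X) ^ n} := by
  rw [Ideal.span_singleton_pow, Ideal.map_span, Set.image_singleton, map_pow]

theorem map_span_X :
    (Ideal.span {(X : R[X])}).map (algebraMap R[X] B) =
      Ideal.span {algebraMap R[X] B X} := by
  rw [Ideal.map_span, Set.image_singleton]

variable (hB : Hens2.IsPairHenselization R[X] (Ideal.span {(X : R[X])}) B)
include hB

theorem t_mem_jacobson : algebraMap R[X] B X ∈ Ideal.jacobson (⊥ : Ideal B) :=
  hB.1.jac (Ideal.mem_map_of_mem _ (Ideal.subset_span rfl))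

/-- (B1) approximation by polynomials modulo `t^N`. -/
theorem exists_poly_sub_mem (N : ℕ) (b : B) :
    ∃ p : R[X], b - algebraMap R[X] B p ∈ Ideal.span {(algebraMap R[X] B X) ^ N} := by
  obtain ⟨y, hy⟩ := (Groth.Agent.Helper7.Hens.quotient_pow_bijective_of_isPairHenselization hB N).2
    (Ideal.Quotient.mk _ b)
  obtain ⟨p, rfl⟩ := Ideal.Quotient.mk_surjective y
  refine ⟨p, ?_⟩
  rw [Ideal.quotientMap_mk, Ideal.Quotient.eq, map_span_X_pow] at hy
  have := Ideal.neg_mem_iff _ |>.mpr hy
  simpa using this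

/-- (B2) -/
theorem X_pow_dvd_of_mem (N : ℕ) (p : R[X])
    (hp : algebraMap R[X] B p ∈ Ideal.span {(algebraMap R[X] B X) ^ N}) : X ^ N ∣ p := by
  have h1 := (Groth.Agent.Helper7.Hens.quotient_pow_bijective_of_isPairHenselization hB N).1
  have h2 : Ideal.quotientMap (((Ideal.span {(X : R[X])}) ^ N).map (algebraMap R[X] B))
      (algebraMap R[X] B) Ideal.le_comap_map (Ideal.Quotient.mk _ p) = 0 := by
    rw [Ideal.quotientMap_mk, Ideal.Quotient.eq_zero_iff_mem, map_span_X_pow]
    exact hp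
  have h3 := (injective_iff_map_eq_zero _).mp h1 _ h2
  rw [Ideal.Quotient.eq_zero_iff_mem, Ideal.span_singleton_pow, Ideal.mem_span_singleton] at h3
  exact h3

/-- the retraction `ρ : B → R`. -/
theorem exists_retraction :
    ∃ ρ : B →+* R, (∀ p : R[X], ρ (algebraMap R[X] B p) = p.eval 0) ∧
      ∀ b : B, b - algebraMap R B (ρ b) ∈ Ideal.span {algebraMap R[X] B X} := by
  obtain ⟨ρ, hρ, -⟩ := hB.2 R ⊥ (Polynomial.evalRingHom (0 : R)) (henselianRing_bot R) (by
    rw [Ideal.map_span, Set.image_singleton]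
    simp)
  have h1 : ∀ p : R[X], ρ (algebraMap R[X] B p) = p.eval 0 := fun p => by
    have := RingHom.congr_fun hρ p
    simpa using this
  refine ⟨ρ, h1, fun b => ?_⟩
  obtain ⟨p, hp⟩ := exists_poly_sub_mem hB 1 b
  rw [pow_one] at hp
  obtain ⟨c, hc⟩ := Ideal.mem_span_singleton.mp hp
  have h2 : ρ b = p.eval 0 := by
    have : b = algebraMap R[X] B p + algebraMap R[X] B X * c := by rw [← hc]; ring
    rw [this, map_add, map_mul, h1, h1]
    simp
  rw [h2]
  have h3 : algebraMap R B (p.eval 0) = algebraMap R[X] B (C (p.eval 0)) := by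
    rw [IsScalarTower.algebraMap_apply R R[X] B]; rfl
  have h4 : b - algebraMap R B (p.eval 0) =
      (b - algebraMap R[X] B p) + algebraMap R[X] B (p - C (p.eval 0)) := by
    rw [h3, map_sub]; ring
  rw [h4]
  refine Ideal.add_mem _ hp ?_
  have h5 : X ∣ p - C (p.eval 0) := by
    rw [Polynomial.X_dvd_iff]
    simp [Polynomial.coeff_zero_eq_eval_zero]
  obtain ⟨q, hq⟩ := h5
  rw [hq, map_mul]
  exact Ideal.mul_mem_right _ _ (Ideal.subset_span rfl)

end

end H9HW
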