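import Mathlib
import Groth.Prelude.Def_Hens2
import Groth.Agent.Lib.Helper7.Hens.Abstract
import Groth.Agent.Lib.Helper7.Hensel.FiniteLocal
import Groth.Agent.Lib.Helper7.Hensel.SmallerIdeal
import Groth.Agent.Lib.Helper7.Hensel.QuasiFiniteSplit

namespace H9HW
open Polynomial IsLocalRing
open Groth.Agent.Helper7.Hensel
universe u

theorem sub_one_eq_zero_of_idem_of_notMem {D : Type*} [CommRing D] [IsLocalRing D] {e : D}
    (he : IsIdempotentElem e) (hne : e ∉ maximalIdeal D) : 1 - e = 0 := by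
  have hu : IsUnit e := by
    by_contra h
    exact hne ((IsLocalRing.mem_maximalIdeal _).mpr h)
  have h1 : e * (1 - e) = 0 := by rw [mul_sub, mul_one, he.eq, sub_self]
  exact (hu.mul_right_eq_zero).mp h1

section LemD
variable {R : Type u} [CommRing R] [HenselianLocalRing R]
  {U : Type u} [CommRing U] [Algebra R U] [Algebra.FiniteType R U]
  {B : Type u} [CommRing B] [Algebra U B] [Algebra R B] [IsScalarTower R U B]

theorem finite_quotient_of_nbhd (x : U)
    (hBU : Hens2.IsPairHenselization U (Ideal.span {x}) B)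
    [IsLocalRing B]
    (hx : algebraMap U B x ∈ maximalIdeal B)
    (hm : (maximalIdeal R).map (algebraMap R B) ≤ maximalIdeal B)
    (hconst : ∀ u : U, ∃ r : R, u - algebraMap R U r ∈ Ideal.span {x})
    (n : ℕ) (hn : n ≠ 0) (g' g'' μ' : U) (hμ' : μ' ∈ (maximalIdeal R).map (algebraMap R U))
    (hgg : algebraMap U B (g' * g'' - 1) = 0) :
    Module.Finite R (B ⧸ Ideal.span {algebraMap U B (x ^ n * g' + μ')}) := by
  classical
  set f'' := x ^ n * g' + μ' with hf''
  set F := algebraMap U B f'' with hF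
  let J : Ideal U := Ideal.span {f'', g' * g'' - 1}
  have hJle : J ≤ (Ideal.span {F}).comap (algebraMap U B) := by
    rw [Ideal.span_le]
    intro y hy
    rcases hy with rfl | hy
    · exact Ideal.subset_span rfl
    · rw [Set.mem_singleton_iff] at hy
      subst hy
      rw [SetLike.mem_coe, Ideal.mem_comap, hgg]
      exact zero_mem _
  let σ : U ⧸ J →+* B ⧸ Ideal.span {F} := Ideal.quotientMap _ (algebraMap U B) hJle
  have hσ : ∀ u : U, σ (Ideal.Quotient.mk J u) = Ideal.Quotient.mk _ (algebraMap U B u) :=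
    fun u => Ideal.quotientMap_mk
  have hmU : ∀ μ ∈ (maximalIdeal R).map (algebraMap R U),
      algebraMap U B μ ∈ maximalIdeal B := by
    intro μ hμ
    apply hm
    have := Ideal.mem_map_of_mem (algebraMap U B) hμ
    rwa [Ideal.map_map, ← IsScalarTower.algebraMap_eq] at this
  have hFm : F ∈ maximalIdeal B := by
    rw [hF, hf'', map_add, map_mul, map_pow]
    refine Ideal.add_mem _ (Ideal.mul_mem_right _ _ (Ideal.pow_mem_of_mem _ hx n
      (Nat.pos_of_ne_zero hn))) (hmU _ hμ')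
  have hne : Ideal.span {F} ≠ ⊤ := by
    intro h
    have : Ideal.span {F} ≤ maximalIdeal B := (Ideal.span_singleton_le_iff_mem _).mpr hFm
    rw [h] at this
    exact (IsLocalRing.maximalIdeal.isMaximal B).ne_top (top_le_iff.mp this)
  haveI : Nontrivial (B ⧸ Ideal.span {F}) := Ideal.Quotient.nontrivial_iff.mpr hne
  haveI : IsLocalRing (B ⧸ Ideal.span {F}) :=
    IsLocalRing.of_surjective' (Ideal.Quotient.mk _) Ideal.Quotient.mk_surjective
  -- (k1)
  have k1 : ∀ b : B, b ∈ maximalIdeal B →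
      Ideal.Quotient.mk (Ideal.span {F}) b ∈ maximalIdeal (B ⧸ Ideal.span {F}) := by
    intro b hb
    rw [IsLocalRing.mem_maximalIdeal, mem_nonunits_iff]
    intro hu
    obtain ⟨c, hc⟩ := hu.exists_right_inv
    obtain ⟨c, rfl⟩ := Ideal.Quotient.mk_surjective c
    rw [← map_mul, ← map_one (Ideal.Quotient.mk (Ideal.span {F})), Ideal.Quotient.eq] at hc
    have h1 : b * c - 1 ∈ maximalIdeal B :=
      ((Ideal.span_singleton_le_iff_mem _).mpr hFm) hc
    have h2 : b * c ∈ maximalIdeal B := Ideal.mul_mem_right _ _ hb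
    have h3 : (1 : B) ∈ maximalIdeal B := by
      have := Ideal.sub_mem _ h2 h1
      simpa using this
    exact (IsLocalRing.maximalIdeal.isMaximal B).ne_top ((Ideal.eq_top_iff_one _).mpr h3)
  let q : Ideal (U ⧸ J) := (maximalIdeal (B ⧸ Ideal.span {F})).comap σ
  haveI hqp : q.IsPrime := Ideal.comap_isPrime σ _
  have q1 : ∀ r : R, algebraMap R (U ⧸ J) r ∈ q ↔ r ∈ maximalIdeal R := by
    intro r
    have e1 : σ (algebraMap R (U ⧸ J) r) = Ideal.Quotient.mk _ (algebraMap R B r) := by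
      rw [IsScalarTower.algebraMap_apply R U (U ⧸ J), Ideal.Quotient.algebraMap_eq, hσ,
        ← IsScalarTower.algebraMap_apply]
    constructor
    · intro h
      by_contra hr
      have hu : IsUnit r := by
        by_contra h'
        exact hr ((IsLocalRing.mem_maximalIdeal _).mpr h')
      have h2 : IsUnit (σ (algebraMap R (U ⧸ J) r)) := (hu.map _).map σ
      exact (IsLocalRing.mem_maximalIdeal _).mp h h2
    · intro hr
      show σ (algebraMap R (U ⧸ J) r) ∈ maximalIdeal (B ⧸ Ideal.span {F})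
      rw [e1]
      exact k1 _ (hm (Ideal.mem_map_of_mem _ hr))
  have q2 : Ideal.Quotient.mk J x ∈ q := by
    show σ (Ideal.Quotient.mk J x) ∈ maximalIdeal (B ⧸ Ideal.span {F})
    rw [hσ]
    exact k1 _ hx
  -- determination of ideals
  have star : ∀ Q₁ Q₂ : Ideal (U ⧸ J), Ideal.Quotient.mk J x ∈ Q₂ →
      (∀ r : R, algebraMap R (U ⧸ J) r ∈ Q₁ → r ∈ maximalIdeal R) →
      (∀ r : R, r ∈ maximalIdeal R → algebraMap R (U ⧸ J) r ∈ Q₂) →
      Ideal.Quotient.mk J x ∈ Q₁ → Q₁ ≤ Q₂ := by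
    intro Q₁ Q₂ hx2 h1 h2 hx1 s hs
    obtain ⟨u, rfl⟩ := Ideal.Quotient.mk_surjective s
    obtain ⟨r, hr⟩ := hconst u
    obtain ⟨c, hc⟩ := Ideal.mem_span_singleton.mp hr
    have e1 : Ideal.Quotient.mk J u = algebraMap R (U ⧸ J) r +
        Ideal.Quotient.mk J x * Ideal.Quotient.mk J c := by
      rw [IsScalarTower.algebraMap_apply R U (U ⧸ J), Ideal.Quotient.algebraMap_eq, ← map_mul,
        ← map_add, ← hc]
      congr 1; ring
    have e2 : algebraMap R (U ⧸ J) r ∈ Q₁ := by
      have : algebraMap R (U ⧸ J) r = Ideal.Quotient.mk J u -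
          Ideal.Quotient.mk J x * Ideal.Quotient.mk J c := by rw [e1]; ring
      rw [this]
      exact Ideal.sub_mem _ hs (Ideal.mul_mem_right _ _ hx1)
    rw [e1]
    exact Ideal.add_mem _ (h2 r (h1 r e2)) (Ideal.mul_mem_right _ _ hx2)
  have q3 : ∀ q' : Ideal (U ⧸ J), q'.IsPrime →
      (∀ r : R, algebraMap R (U ⧸ J) r ∈ q' ↔ r ∈ maximalIdeal R) → q' = q := by
    intro q' hq' hr'
    have hmq' : ∀ μ ∈ (maximalIdeal R).map (algebraMap R U), Ideal.Quotient.mk J μ ∈ q' := by
      intro μ hμ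
      have h1 := Ideal.mem_map_of_mem (Ideal.Quotient.mk J) hμ
      rw [Ideal.map_map] at h1
      have h2 : (maximalIdeal R).map ((Ideal.Quotient.mk J).comp (algebraMap R U)) ≤ q' := by
        rw [Ideal.map_le_iff_le_comap]
        intro r hr
        exact (hr' r).mpr hr
      exact h2 h1
    have hxq' : Ideal.Quotient.mk J x ∈ q' := by
      have h0 : Ideal.Quotient.mk J f'' = 0 :=
        Ideal.Quotient.eq_zero_iff_mem.mpr (Ideal.subset_span (by simp))
      have h1 : Ideal.Quotient.mk J (g' * g'' - 1) = 0 :=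
        Ideal.Quotient.eq_zero_iff_mem.mpr (Ideal.subset_span (by simp))
      rw [hf'', map_add, map_mul, map_pow] at h0
      rw [map_sub, map_mul, map_one, sub_eq_zero] at h1
      have h2 : (Ideal.Quotient.mk J x) ^ n = - (Ideal.Quotient.mk J μ' * Ideal.Quotient.mk J g'') := by
        have : (Ideal.Quotient.mk J x) ^ n = (Ideal.Quotient.mk J x) ^ n *
            (Ideal.Quotient.mk J g' * Ideal.Quotient.mk J g'') := by rw [h1, mul_one]
        rw [this, ← mul_assoc, eq_neg_of_add_eq_zero_left h0]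
        ring
      have h3 : (Ideal.Quotient.mk J x) ^ n ∈ q' := by
        rw [h2]
        exact Ideal.neg_mem_iff _ |>.mpr (Ideal.mul_mem_right _ _ (hmq' _ hμ'))
      exact hq'.mem_of_pow_mem n h3
    apply le_antisymm
    · exact star q' q q2 (fun r h => (hr' r).mp h) (fun r h => (q1 r).mpr h) hxq'
    · exact star q q' hxq' (fun r h => (q1 r).mp h) (fun r h => (hr' r).mpr h) q2
  -- quasi-finiteness at q
  have hqf : Algebra.QuasiFiniteAt R q := by
    refine Algebra.QuasiFiniteAt.of_isOpen_singleton_fiber (R := R) (S := U ⧸ J) ⟨q, hqp⟩ ?_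
    convert isOpen_univ
    ext ⟨y, hy⟩
    simp only [Set.mem_singleton_iff, Set.mem_univ, iff_true]
    have hy' : y.asIdeal.comap (algebraMap R (U ⧸ J)) = q.comap (algebraMap R (U ⧸ J)) := by
      have := congrArg PrimeSpectrum.asIdeal hy
      exact this
    refine Subtype.ext (PrimeSpectrum.ext ?_)
    refine q3 y.asIdeal y.isPrime fun r => ?_
    rw [← q1 r]
    exact ⟨fun h => by
        have : r ∈ y.asIdeal.comap (algebraMap R (U ⧸ J)) := h
        rw [hy'] at this; exact this,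
      fun h => by
        have : r ∈ q.comap (algebraMap R (U ⧸ J)) := h
        rw [← hy'] at this; exact this⟩
  have hmq : (maximalIdeal R).map (algebraMap R (U ⧸ J)) ≤ q := by
    rw [Ideal.map_le_iff_le_comap]
    intro r hr
    exact (q1 r).mpr hr
  obtain ⟨e, he, hfin, hne'⟩ := exists_idempotent_split R (U ⧸ J) {⟨q, hqp⟩} (by
    intro q' hq'
    rw [Finset.mem_singleton] at hq'
    subst hq'
    exact hqf)
  have heq : e ∉ q := hne' ⟨q, hqp⟩ (Finset.mem_singleton_self _) hmq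
  have h1e : 1 - e ∈ q := by
    have : e * (1 - e) ∈ q := by
      rw [mul_sub, mul_one, he.eq, sub_self]; exact zero_mem _
    exact (hqp.mem_or_mem this).resolve_left heq
  let K₁ : Ideal (U ⧸ J) := Ideal.span {1 - e}
  let mk₁ : U ⧸ J →+* (U ⧸ J) ⧸ K₁ := Ideal.Quotient.mk K₁
  have hK₁q : K₁ ≤ q := (Ideal.span_singleton_le_iff_mem _).mpr h1e
  haveI : Nontrivial ((U ⧸ J) ⧸ K₁) := Ideal.Quotient.nontrivial_iff.mpr
    (fun h => hqp.ne_top (top_le_iff.mp (h ▸ hK₁q)))
  haveI : Module.Finite R ((U ⧸ J) ⧸ K₁) := hfin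
  have hall : ∀ M : Ideal ((U ⧸ J) ⧸ K₁), M.IsMaximal → M.comap mk₁ = q := by
    intro M hM
    refine q3 _ (Ideal.comap_isPrime mk₁ M) fun r => ?_
    have hmax : (M.comap (algebraMap R ((U ⧸ J) ⧸ K₁))).IsMaximal :=
      Ideal.isMaximal_comap_of_isIntegral_of_isMaximal M
    have := IsLocalRing.eq_maximalIdeal hmax
    rw [← this]
    rfl
  haveI : IsLocalRing ((U ⧸ J) ⧸ K₁) := by
    obtain ⟨M₀, hM₀⟩ := Ideal.exists_maximal ((U ⧸ J) ⧸ K₁)
    refine IsLocalRing.of_unique_max_ideal ⟨M₀, hM₀, fun M hM => ?_⟩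
    rw [← Ideal.map_comap_of_surjective mk₁ Ideal.Quotient.mk_surjective M, hall M hM,
      ← hall M₀ hM₀, Ideal.map_comap_of_surjective mk₁ Ideal.Quotient.mk_surjective]
  haveI : HenselianLocalRing ((U ⧸ J) ⧸ K₁) := henselianLocalRing_of_finite R _
  let x₁ : (U ⧸ J) ⧸ K₁ := mk₁ (Ideal.Quotient.mk J x)
  have hx₁ : x₁ ∈ maximalIdeal ((U ⧸ J) ⧸ K₁) := by
    have := hall (maximalIdeal _) (IsLocalRing.maximalIdeal.isMaximal _)
    have h2 : Ideal.Quotient.mk J x ∈ (maximalIdeal ((U ⧸ J) ⧸ K₁)).comap mk₁ := by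
      rw [this]; exact q2
    exact h2
  have hH₁ : HenselianRing ((U ⧸ J) ⧸ K₁) (Ideal.span {x₁}) :=
    ((Gabber.of_henselianLocalRing _).of_le
      ((Ideal.span_singleton_le_iff_mem _).mpr hx₁)).henselianRing
  let ι : U →+* (U ⧸ J) ⧸ K₁ := mk₁.comp (Ideal.Quotient.mk J)
  obtain ⟨φ, hφ, -⟩ := hBU.2 _ (Ideal.span {x₁}) ι hH₁ (by
    rw [Ideal.map_span, Set.image_singleton]; rfl)
  have hσe : ∀ a ∈ K₁, σ a = 0 := by
    intro a ha
    obtain ⟨c, rfl⟩ := Ideal.mem_span_singleton.mp ha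
    have : σ (1 - e) = 0 := by
      rw [map_sub, map_one]
      exact sub_one_eq_zero_of_idem_of_notMem (he.map σ) heq
    rw [map_mul, this, zero_mul]
  let ψ : (U ⧸ J) ⧸ K₁ →+* B ⧸ Ideal.span {F} := Ideal.Quotient.lift K₁ σ hσe
  let π : B →+* B ⧸ Ideal.span {F} := Ideal.Quotient.mk _
  have hint : Algebra.IsIntegral B (B ⧸ Ideal.span {F}) :=
    Algebra.isIntegral_of_surjective Ideal.Quotient.mk_surjective
  have hC : HenselianRing (B ⧸ Ideal.span {F}) (((Ideal.span {x}).map (algebraMap U B)).map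
      (algebraMap B (B ⧸ Ideal.span {F}))) :=
    ((Gabber.of_henselianRing hBU.1).of_isIntegral).henselianRing
  let f₀ : U →+* B ⧸ Ideal.span {F} := (algebraMap B _).comp (algebraMap U B)
  have huniq := hBU.2 _ _ f₀ hC (by rw [Ideal.map_map])
  have e1 : (ψ.comp φ).comp (algebraMap U B) = f₀ := by
    refine RingHom.ext fun u => ?_
    rw [RingHom.comp_apply, RingHom.comp_apply,
      show φ (algebraMap U B u) = ι u from RingHom.congr_fun hφ u]
    show ψ (mk₁ (Ideal.Quotient.mk J u)) = _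
    rw [Ideal.Quotient.lift_mk, hσ]; rfl
  have e3 : ψ.comp φ = π := huniq.unique e1 rfl
  have hsurj : Function.Surjective ψ := by
    intro d
    obtain ⟨b, rfl⟩ := Ideal.Quotient.mk_surjective d
    exact ⟨φ b, RingHom.congr_fun e3 b⟩
  have hψalg : ∀ r : R, ψ (algebraMap R ((U ⧸ J) ⧸ K₁) r) = algebraMap R (B ⧸ Ideal.span {F}) r := by
    intro r
    have h1 : algebraMap R ((U ⧸ J) ⧸ K₁) r = mk₁ (Ideal.Quotient.mk J (algebraMap R U r)) := rfl
    rw [h1, Ideal.Quotient.lift_mk, hσ, ← IsScalarTower.algebraMap_apply]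
    rfl
  let ψl : ((U ⧸ J) ⧸ K₁) →ₗ[R] (B ⧸ Ideal.span {F}) :=
    { toFun := ψ
      map_add' := map_add ψ
      map_smul' := fun r d => by
        show ψ (r • d) = r • ψ d
        have h1 : r • d = algebraMap R ((U ⧸ J) ⧸ K₁) r * d := Algebra.smul_def r d
        rw [h1, Algebra.smul_def, map_mul, hψalg] }
  exact Module.Finite.of_surjective ψl hsurj

end LemD
end H9HW
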