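import Mathlib
import Groth.Prelude.Def_Hens2
import Groth.Agent.Lib.Helper7.Hens.Abstract
import Groth.Agent.Lib.Helper7.Hens.FinPres
import Groth.Agent.S1994
import Groth.Agent.Lib.Helper9.HW.Local

namespace H9HW
open Polynomial IsLocalRing
universe u

section
variable {R : Type u} [CommRing R] [IsLocalRing R] {B : Type u} [CommRing B] [Algebra R B]
  [Algebra R[X] B] [IsScalarTower R R[X] B]
variable (hB : Hens2.IsPairHenselization R[X] (Ideal.span {(X : R[X])}) B)
include hB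

theorem isUnit_iff_retraction (ρ : B →+* R)
    (h2 : ∀ b : B, b - algebraMap R B (ρ b) ∈ Ideal.span {algebraMap R[X] B X}) (b : B) :
    IsUnit b ↔ IsUnit (ρ b) := by
  refine ⟨fun h => h.map ρ, fun h => ?_⟩
  have h3 : b - algebraMap R B (ρ b) ∈ Ideal.jacobson (⊥ : Ideal B) := by
    obtain ⟨c, hc⟩ := Ideal.mem_span_singleton.mp (h2 b)
    rw [hc]
    exact Ideal.mul_mem_right _ _ (t_mem_jacobson hB)
  have h4 : IsUnit (algebraMap R B (ρ b)) := h.map _
  obtain ⟨u, hu⟩ := h4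
  have h5 := (Ideal.mem_jacobson_bot.mp h3) (↑u⁻¹ : B)
  have h6 : b = ↑u * ((b - algebraMap R B (ρ b)) * ↑u⁻¹ + 1) := by
    rw [mul_add, mul_one, mul_comm _ (↑u⁻¹ : B), ← mul_assoc, Units.mul_inv, one_mul, hu]; ring
  rw [h6]
  exact u.isUnit.mul h5

theorem isLocalRing_B : IsLocalRing B := by
  obtain ⟨ρ, h1, h2⟩ := exists_retraction hB
  haveI : Nontrivial B := ρ.domain_nontrivial
  refine IsLocalRing.of_isUnit_or_isUnit_one_sub_self fun b => ?_
  rcases IsLocalRing.isUnit_or_isUnit_one_sub_self (ρ b) with h | h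
  · exact Or.inl ((isUnit_iff_retraction hB ρ h2 b).mpr h)
  · refine Or.inr ((isUnit_iff_retraction hB ρ h2 (1 - b)).mpr ?_)
    rwa [map_sub, map_one]

theorem map_maximalIdeal_le_jacobson :
    (maximalIdeal R).map (algebraMap R B) ≤ Ideal.jacobson (⊥ : Ideal B) := by
  obtain ⟨ρ, h1, h2⟩ := exists_retraction hB
  haveI := isLocalRing_B hB
  rw [IsLocalRing.jacobson_eq_maximalIdeal _ bot_ne_top, Ideal.map_le_iff_le_comap]
  intro r hr
  rw [Ideal.mem_comap, IsLocalRing.mem_maximalIdeal, mem_nonunits_iff,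
    isUnit_iff_retraction hB ρ h2]
  have : ρ (algebraMap R B r) = r := by
    rw [IsScalarTower.algebraMap_apply R R[X] B, h1]
    simp
  rw [this]
  exact hr

/-- elements of `mB` are approximated by polynomials with coefficients in `m`. -/
theorem exists_poly_of_mem_map (N : ℕ) (μ : B) (hμ : μ ∈ (maximalIdeal R).map (algebraMap R B)) :
    ∃ q : R[X], q ∈ (maximalIdeal R).map (C : R →+* R[X]) ∧
      μ - algebraMap R[X] B q ∈ Ideal.span {(algebraMap R[X] B X) ^ N} := by
  rw [Ideal.map] at hμ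
  induction hμ using Submodule.span_induction with
  | mem x hx =>
    obtain ⟨r, hr, rfl⟩ := hx
    refine ⟨C r, Ideal.mem_map_of_mem _ hr, ?_⟩
    have : algebraMap R B r = algebraMap R[X] B (C r) := by
      rw [IsScalarTower.algebraMap_apply R R[X] B]; rfl
    rw [this, sub_self]
    exact Ideal.zero_mem _
  | zero => exact ⟨0, Ideal.zero_mem _, by simp⟩
  | add x y _ _ hx hy =>
    obtain ⟨q₁, hq₁, h₁⟩ := hx
    obtain ⟨q₂, hq₂, h₂⟩ := hy
    refine ⟨q₁ + q₂, Ideal.add_mem _ hq₁ hq₂, ?_⟩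
    have : x + y - algebraMap R[X] B (q₁ + q₂) =
        (x - algebraMap R[X] B q₁) + (y - algebraMap R[X] B q₂) := by rw [map_add]; ring
    rw [this]
    exact Ideal.add_mem _ h₁ h₂
  | smul c x _ hx =>
    obtain ⟨q, hq, h⟩ := hx
    obtain ⟨p, hp⟩ := exists_poly_sub_mem hB N c
    refine ⟨p * q, Ideal.mul_mem_left _ _ hq, ?_⟩
    have : c • x - algebraMap R[X] B (p * q) =
        c * (x - algebraMap R[X] B q) + (c - algebraMap R[X] B p) * algebraMap R[X] B q := by
      rw [map_mul, smul_eq_mul]; ring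
    rw [this]
    exact Ideal.add_mem _ (Ideal.mul_mem_left _ _ h) (Ideal.mul_mem_right _ _ hp)

/-- (B3) -/
theorem coeff_mem_of_mem_sup (N : ℕ) (p : R[X])
    (hp : algebraMap R[X] B p ∈ Ideal.span {(algebraMap R[X] B X) ^ N} ⊔
      (maximalIdeal R).map (algebraMap R B)) :
    ∀ i < N, p.coeff i ∈ maximalIdeal R := by
  obtain ⟨x, hx, μ, hμ, hxμ⟩ := Submodule.mem_sup.mp hp
  obtain ⟨q, hq, hq2⟩ := exists_poly_of_mem_map hB N μ hμ
  have h1 : algebraMap R[X] B (p - q) ∈ Ideal.span {(algebraMap R[X] B X) ^ N} := by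
    have : algebraMap R[X] B (p - q) = x + (μ - algebraMap R[X] B q) := by
      rw [map_sub, ← hxμ]; ring
    rw [this]
    exact Ideal.add_mem _ hx hq2
  have h2 := X_pow_dvd_of_mem hB N (p - q) h1
  intro i hi
  have h3 : (p - q).coeff i = 0 := by
    rw [Polynomial.X_pow_dvd_iff] at h2
    exact h2 i hi
  rw [Polynomial.coeff_sub, sub_eq_zero] at h3
  rw [h3]
  exact (Ideal.mem_map_C_iff.mp hq) i

end
end H9HW
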