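import Mathlib
import Groth.Prelude.Def_Hens2
import Groth.Agent.Lib.Helper7.Hens.Abstract
import Groth.Agent.Lib.Helper7.Hens.FinPres
import Groth.Agent.S1994
import Groth.Agent.Lib.Helper9.HW.Local2

namespace H9HW
open Polynomial IsLocalRing
universe u

section
variable {R : Type u} [CommRing R] [IsLocalRing R] {B : Type u} [CommRing B] [Algebra R B]
  [Algebra R[X] B] [IsScalarTower R R[X] B]
variable (hB : Hens2.IsPairHenselization R[X] (Ideal.span {(X : R[X])}) B)
include hB

theorem isNoetherianRing_quot :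
    IsNoetherianRing (B ⧸ (maximalIdeal R).map (algebraMap R B)) := by
  let K : Ideal R[X] := (maximalIdeal R).map (C : R →+* R[X])
  let mB : Ideal B := (maximalIdeal R).map (algebraMap R B)
  have hle : K ≤ mB.comap (algebraMap R[X] B) := by
    rw [← Ideal.map_le_iff_le_comap, Ideal.map_map]
    have : (algebraMap R[X] B).comp (C : R →+* R[X]) = algebraMap R B := by
      ext r; exact (IsScalarTower.algebraMap_apply R R[X] B r).symm
    rw [this]
  letI : Algebra (R[X] ⧸ K) (B ⧸ mB) := (Ideal.quotientMap mB (algebraMap R[X] B) hle).toAlgebra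
  have hker : RingHom.ker (Ideal.Quotient.mk mB) = K.map (algebraMap R[X] B) := by
    rw [Ideal.mk_ker, Ideal.map_map]
    have : (algebraMap R[X] B).comp (C : R →+* R[X]) = algebraMap R B := by
      ext r; exact (IsScalarTower.algebraMap_apply R R[X] B r).symm
    rw [this]
  have h1 := Groth.Agent.Helper7.Hens.isPairHenselization_quotient hB K (Ideal.Quotient.mk mB)
    Ideal.Quotient.mk_surjective hker (fun u => rfl)
  have hN0 : IsNoetherianRing (R ⧸ maximalIdeal R) := by
    letI := Ideal.Quotient.field (maximalIdeal R)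
    infer_instance
  have : IsNoetherianRing (R[X] ⧸ K) :=
    isNoetherianRing_of_ringEquiv _ (Ideal.polynomialQuotientEquivQuotientPolynomial (maximalIdeal R))
  exact (Groth.Agent.S1994.result _ _ _ h1).1

/-- (B4) -/
theorem exists_order (f : B) (hf : f ∉ (maximalIdeal R).map (algebraMap R B)) :
    ∃ n : ℕ, f ∈ Ideal.span {(algebraMap R[X] B X) ^ n} ⊔ (maximalIdeal R).map (algebraMap R B) ∧
      f ∉ Ideal.span {(algebraMap R[X] B X) ^ (n + 1)} ⊔ (maximalIdeal R).map (algebraMap R B) := by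
  classical
  have := isNoetherianRing_quot hB
  set mB : Ideal B := (maximalIdeal R).map (algebraMap R B) with hmB
  set t : B := algebraMap R[X] B X with ht
  let π := Ideal.Quotient.mk mB
  have hjac : Ideal.span {π t} ≤ Ideal.jacobson (⊥ : Ideal (B ⧸ mB)) := by
    rw [Ideal.span_singleton_le_iff_mem]
    have := t_mem_jacobson hB
    rw [Ideal.mem_jacobson_bot] at this ⊢
    intro y
    obtain ⟨y, rfl⟩ := Ideal.Quotient.mk_surjective y
    have h := (this y).map π
    simpa using h
  have hkr := Ideal.iInf_pow_smul_eq_bot_of_le_jacobson (M := B ⧸ mB) _ hjac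
  have hne : π f ≠ 0 := by
    rwa [Ne, Ideal.Quotient.eq_zero_iff_mem]
  have key : ∀ n : ℕ, π f ∈ Ideal.span {π t} ^ n → f ∈ Ideal.span {t ^ n} ⊔ mB := by
    intro n hn
    rw [Ideal.span_singleton_pow, Ideal.mem_span_singleton] at hn
    obtain ⟨c, hc⟩ := hn
    obtain ⟨c, rfl⟩ := Ideal.Quotient.mk_surjective c
    rw [← map_pow, ← map_mul, Ideal.Quotient.eq] at hc
    have : f = t ^ n * c + (f - t ^ n * c) := by ring
    rw [this]
    exact Ideal.add_mem _ (Ideal.mem_sup_left (Ideal.mul_mem_right _ _ (Ideal.subset_span rfl)))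
      (Ideal.mem_sup_right hc)
  have key2 : ∀ n : ℕ, f ∈ Ideal.span {t ^ n} ⊔ mB → π f ∈ Ideal.span {π t} ^ n := by
    intro n hn
    obtain ⟨x, hx, μ, hμ, hxμ⟩ := Submodule.mem_sup.mp hn
    obtain ⟨c, rfl⟩ := Ideal.mem_span_singleton.mp hx
    rw [← hxμ, map_add, Ideal.Quotient.eq_zero_iff_mem.mpr hμ, add_zero, map_mul, map_pow,
      Ideal.span_singleton_pow]
    exact Ideal.mul_mem_right _ _ (Ideal.subset_span rfl)
  have hex : ∃ n : ℕ, π f ∉ Ideal.span {π t} ^ n := by
    by_contra hcon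
    push Not at hcon
    apply hne
    have : π f ∈ (⨅ i : ℕ, Ideal.span {π t} ^ i • ⊤ : Submodule (B ⧸ mB) (B ⧸ mB)) := by
      rw [Submodule.mem_iInf]
      intro i
      rw [smul_eq_mul, Ideal.mul_top]
      exact hcon i
    rw [hkr] at this
    exact this
  have h0 : Nat.find hex ≠ 0 := by
    intro h
    have := Nat.find_spec hex
    rw [h, pow_zero, Ideal.one_eq_top] at this
    exact this Submodule.mem_top
  obtain ⟨n, hn⟩ := Nat.exists_eq_succ_of_ne_zero h0
  refine ⟨n, key n ?_, fun h => ?_⟩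
  · by_contra hcon
    have := Nat.find_min' hex hcon
    omega
  · have := Nat.find_spec hex
    rw [hn] at this
    exact this (key2 _ h)

/-- (B5) -/
theorem exists_decomp (f : B) (hf : f ∉ (maximalIdeal R).map (algebraMap R B)) :
    ∃ (n : ℕ) (g : Bˣ) (μ : B), μ ∈ (maximalIdeal R).map (algebraMap R B) ∧
      f = (algebraMap R[X] B X) ^ n * g + μ := by
  obtain ⟨n, h1, h2⟩ := exists_order hB f hf
  obtain ⟨x, hx, μ, hμ, hxμ⟩ := Submodule.mem_sup.mp h1
  obtain ⟨g, rfl⟩ := Ideal.mem_span_singleton.mp hx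
  obtain ⟨ρ, hρ1, hρ2⟩ := exists_retraction hB
  have hg : IsUnit g := by
    rw [isUnit_iff_retraction hB ρ hρ2]
    by_contra hcon
    have hm : ρ g ∈ maximalIdeal R := hcon
    apply h2
    obtain ⟨c, hc⟩ := Ideal.mem_span_singleton.mp (hρ2 g)
    have : f = (algebraMap R[X] B X) ^ (n + 1) * c +
        ((algebraMap R[X] B X) ^ n * algebraMap R B (ρ g) + μ) := by
      rw [← hxμ]
      have : g = algebraMap R B (ρ g) + algebraMap R[X] B X * c := by rw [← hc]; ring
      conv_lhs => rw [this]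
      ring
    rw [this]
    refine Ideal.add_mem _ (Ideal.mem_sup_left (Ideal.mul_mem_right _ _ (Ideal.subset_span rfl)))
      (Ideal.mem_sup_right (Ideal.add_mem _ (Ideal.mul_mem_left _ _ ?_) hμ))
    exact Ideal.mem_map_of_mem _ hm
  exact ⟨n, hg.unit, μ, hμ, by rw [← hxμ]; rfl⟩

end
end H9HW
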