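import Mathlib
import Groth.Prelude.Def_Hens2
import Groth.Agent.Lib.Helper7.Hens.FinPres
import Groth.Agent.Lib.Helper9.HW.Krull
import Groth.Agent.Lib.Helper9.HW.Finite

namespace H9HW
open Polynomial IsLocalRing
universe u

section
variable {R : Type u} [CommRing R] [HenselianLocalRing R] {B : Type u} [CommRing B] [Algebra R B]
  [Algebra R[X] B] [IsScalarTower R R[X] B]
variable (hB : Hens2.IsPairHenselization R[X] (Ideal.span {(X : R[X])}) B)
include hB

theorem finite_quotient_of_decomp (n : ℕ) (hn : n ≠ 0) (g : Bˣ) (μ : B)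
    (hμ : μ ∈ (maximalIdeal R).map (algebraMap R B)) :
    Module.Finite R (B ⧸ Ideal.span {(algebraMap R[X] B X) ^ n * (g : B) + μ}) := by
  classical
  rw [Ideal.map, Submodule.mem_span_set'] at hμ
  obtain ⟨k, c, s, hs⟩ := hμ
  have hs' : ∀ i : Fin k, ∃ r : R, r ∈ maximalIdeal R ∧ algebraMap R B r = (s i : B) := by
    intro i
    obtain ⟨r, hr, hr'⟩ := (s i).2
    exact ⟨r, hr, hr'⟩
  choose r hr hrs using hs'
  let b : Fin (k + 2) → B := Fin.cons (g : B) (Fin.cons ((g⁻¹ : Bˣ) : B) c)
  obtain ⟨U, _, _, _, _, _, hq, hBU, hb⟩ :=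
    Groth.Agent.Helper7.Hens.exists_etale_nbhd_of_fin hB b
  letI : Algebra R U := ((algebraMap R[X] U).comp (C : R →+* R[X])).toAlgebra
  haveI : IsScalarTower R R[X] U := IsScalarTower.of_algebraMap_eq (fun _ => rfl)
  haveI : IsScalarTower R U B := IsScalarTower.of_algebraMap_eq (fun r => by
    rw [IsScalarTower.algebraMap_apply R R[X] B, IsScalarTower.algebraMap_apply R[X] U B]
    rfl)
  have hft1 : Algebra.FiniteType R[X] U := inferInstance
  have hft0 : Algebra.FiniteType R R[X] := inferInstance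
  haveI : Algebra.FiniteType R U := Algebra.FiniteType.trans hft0 hft1
  obtain ⟨g', hg'⟩ := hb 0
  obtain ⟨g'', hg''⟩ := hb 1
  have hc' : ∀ i : Fin k, ∃ c' : U, algebraMap U B c' = c i := fun i => by
    obtain ⟨c', hc'⟩ := hb (i.succ.succ)
    exact ⟨c', hc'⟩
  choose c' hc' using hc'
  have hg'b : algebraMap U B g' = g := hg'
  have hg''b : algebraMap U B g'' = ((g⁻¹ : Bˣ) : B) := hg''
  let x : U := algebraMap R[X] U X
  let μ' : U := ∑ i, c' i * algebraMap R U (r i)
  have hμ' : μ' ∈ (maximalIdeal R).map (algebraMap R U) :=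
    Ideal.sum_mem _ fun i _ => Ideal.mul_mem_left _ _ (Ideal.mem_map_of_mem _ (hr i))
  have hμ'b : algebraMap U B μ' = μ := by
    rw [← hs, map_sum]
    refine Finset.sum_congr rfl fun i _ => ?_
    rw [map_mul, hc', ← IsScalarTower.algebraMap_apply, hrs, smul_eq_mul]
  have hxb : algebraMap U B x = algebraMap R[X] B X :=
    (IsScalarTower.algebraMap_apply R[X] U B X).symm
  have hBU' : Hens2.IsPairHenselization U (Ideal.span {x}) B := by
    have : (Ideal.span {(X : R[X])}).map (algebraMap R[X] U) = Ideal.span {x} := by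
      rw [Ideal.map_span, Set.image_singleton]
    rw [← this]; exact hBU
  haveI := isLocalRing_B hB
  have hjm : Ideal.jacobson (⊥ : Ideal B) = maximalIdeal B :=
    IsLocalRing.jacobson_eq_maximalIdeal _ bot_ne_top
  have hx : algebraMap U B x ∈ maximalIdeal B := by
    rw [hxb, ← hjm]; exact t_mem_jacobson hB
  have hm : (maximalIdeal R).map (algebraMap R B) ≤ maximalIdeal B := by
    rw [← hjm]; exact map_maximalIdeal_le_jacobson hB
  have hconst : ∀ u : U, ∃ r : R, u - algebraMap R U r ∈ Ideal.span {x} := by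
    intro u
    obtain ⟨y, hy⟩ := hq.2 (Ideal.Quotient.mk _ u)
    obtain ⟨p, rfl⟩ := Ideal.Quotient.mk_surjective y
    rw [Ideal.quotientMap_mk, Ideal.Quotient.eq, Ideal.map_span, Set.image_singleton] at hy
    refine ⟨p.coeff 0, ?_⟩
    obtain ⟨p₁, hp₁⟩ : X ∣ p - C (p.coeff 0) := by
      rw [Polynomial.X_dvd_iff]; simp
    have h1 : u - algebraMap R U (p.coeff 0) =
        -(algebraMap R[X] U p - u) + algebraMap R[X] U (p - C (p.coeff 0)) := by
      rw [map_sub]
      have : algebraMap R U (p.coeff 0) = algebraMap R[X] U (C (p.coeff 0)) := rfl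
      rw [this]; ring
    rw [h1]
    refine Ideal.add_mem _ (Ideal.neg_mem_iff _ |>.mpr hy) ?_
    rw [hp₁, map_mul]
    exact Ideal.mul_mem_right _ _ (Ideal.subset_span rfl)
  have hgg : algebraMap U B (g' * g'' - 1) = 0 := by
    rw [map_sub, map_mul, map_one, hg'b, hg''b, Units.mul_inv, sub_self]
  have key := finite_quotient_of_nbhd (R := R) x hBU' hx hm hconst n hn g' g'' μ' hμ' hgg
  have hfeq : algebraMap U B (x ^ n * g' + μ') = (algebraMap R[X] B X) ^ n * (g : B) + μ := by
    rw [map_add, map_mul, map_pow, hxb, hg'b, hμ'b]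
  rw [hfeq] at key
  exact key

theorem finite_quotient (f : B) (hf : f ∉ (maximalIdeal R).map (algebraMap R B)) :
    Module.Finite R (B ⧸ Ideal.span {f}) := by
  obtain ⟨n, g, μ, hμ, hfeq⟩ := exists_decomp hB f hf
  by_cases hn : n = 0
  · subst hn
    have hu : IsUnit f := by
      rw [hfeq, pow_zero, one_mul]
      have h1 := (Ideal.mem_jacobson_bot.mp (map_maximalIdeal_le_jacobson hB hμ)) ((g⁻¹ : Bˣ) : B)
      have h2 : (g : B) + μ = g * (μ * ((g⁻¹ : Bˣ) : B) + 1) := by
        rw [mul_add, mul_one, mul_comm μ, ← mul_assoc, Units.mul_inv, one_mul, add_comm]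
      rw [h2]
      exact g.isUnit.mul h1
    have : Subsingleton (B ⧸ Ideal.span {f}) := by
      rw [Ideal.Quotient.subsingleton_iff, Ideal.span_singleton_eq_top]
      exact hu
    infer_instance
  · rw [hfeq]
    exact finite_quotient_of_decomp hB n hn g μ hμ

end
end H9HW
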