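import Mathlib
import Groth.Prelude.Def_Hens2
import Groth.Agent.Lib.Helper7.Hens.Abstract
import Groth.Agent.Lib.Helper7.Hensel.FiniteLocal
import Groth.Agent.Lib.Helper7.Hensel.SmallerIdeal
import Groth.Agent.Lib.Helper9.HW.Local2

namespace H9HW
open Polynomial IsLocalRing
open Groth.Agent.Helper7.Hensel
universe u

/-- `P` is a Weierstrass polynomial. -/
def IsW {R : Type*} [CommRing R] [IsLocalRing R] (P : R[X]) : Prop :=
  P.Monic ∧ ∀ i : ℕ, i < P.natDegree → P.coeff i ∈ maximalIdeal R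

section AR
variable {R : Type u} [CommRing R] [IsLocalRing R] {P : R[X]}

theorem root_pow_mem (hP : IsW P) :
    (AdjoinRoot.root P) ^ P.natDegree ∈
      (maximalIdeal R).map (algebraMap R (AdjoinRoot P)) := by
  have h2 : X ^ P.natDegree + ∑ i ∈ Finset.range P.natDegree, C (P.coeff i) * X ^ i = P :=
    hP.1.as_sum.symm
  have h1 : AdjoinRoot.mk P
      (X ^ P.natDegree + ∑ i ∈ Finset.range P.natDegree, C (P.coeff i) * X ^ i) = 0 := by
    rw [h2]; exact AdjoinRoot.mk_self
  rw [map_add, map_pow, AdjoinRoot.mk_X, map_sum] at h1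
  rw [eq_neg_of_add_eq_zero_left h1]
  refine Ideal.neg_mem_iff _ |>.mpr (Ideal.sum_mem _ fun i hi => ?_)
  rw [map_mul, AdjoinRoot.mk_C]
  exact Ideal.mul_mem_right _ _ (Ideal.mem_map_of_mem _ (hP.2 i (Finset.mem_range.mp hi)))

theorem root_mem_jacobson (hP : IsW P) :
    AdjoinRoot.root P ∈ Ideal.jacobson (⊥ : Ideal (AdjoinRoot P)) := by
  have : Module.Finite R (AdjoinRoot P) := hP.1.finite_adjoinRoot
  have h1 : (maximalIdeal R).map (algebraMap R (AdjoinRoot P)) ≤ Ideal.jacobson ⊥ :=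
    map_le_jacobson_of_isIntegral (by
      rw [IsLocalRing.jacobson_eq_maximalIdeal _ bot_ne_top])
  have h2 : AdjoinRoot.root P ∈ ((maximalIdeal R).map (algebraMap R (AdjoinRoot P))).radical :=
    ⟨_, root_pow_mem hP⟩
  have h3 := Ideal.radical_le_jacobson h2
  have h4 : ((maximalIdeal R).map (algebraMap R (AdjoinRoot P))).jacobson ≤
      Ideal.jacobson ⊥ := by
    calc _ ≤ (Ideal.jacobson (⊥ : Ideal (AdjoinRoot P))).jacobson := Ideal.jacobson_mono h1
      _ = _ := Ideal.jacobson_idem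
  exact h4 h3

theorem isLocalRing_adjoinRoot (hP : IsW P) (hn : P.natDegree ≠ 0) : IsLocalRing (AdjoinRoot P) := by
  have h0 : P.coeff 0 ∈ maximalIdeal R := hP.2 0 (Nat.pos_of_ne_zero hn)
  have hev : P.eval₂ (residue R) 0 = 0 := by
    rw [Polynomial.eval₂_at_zero, (residue_eq_zero_iff _).mpr h0]
  let ε : AdjoinRoot P →+* ResidueField R := AdjoinRoot.lift (residue R) 0 hev
  haveI : Nontrivial (AdjoinRoot P) := ε.domain_nontrivial
  have hj := root_mem_jacobson hP
  have key : ∀ q : R[X], IsUnit (q.coeff 0) → IsUnit (AdjoinRoot.mk P q) := by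
    intro q hq
    obtain ⟨q₁, hq₁⟩ : X ∣ q - C (q.coeff 0) := by
      rw [Polynomial.X_dvd_iff]; simp
    have h1 : AdjoinRoot.mk P q = AdjoinRoot.of P (q.coeff 0) + AdjoinRoot.root P * AdjoinRoot.mk P q₁ := by
      have : q = C (q.coeff 0) + X * q₁ := by rw [← hq₁]; ring
      conv_lhs => rw [this]
      rw [map_add, map_mul, AdjoinRoot.mk_C, AdjoinRoot.mk_X]
    obtain ⟨u, hu⟩ := hq.map (AdjoinRoot.of P)
    have h5 := (Ideal.mem_jacobson_bot.mp hj) (AdjoinRoot.mk P q₁ * ↑u⁻¹)
    have h6 : AdjoinRoot.mk P q = ↑u * (AdjoinRoot.root P * (AdjoinRoot.mk P q₁ * ↑u⁻¹) + 1) := by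
      rw [h1, ← hu, mul_add, mul_one]
      have : (↑u : AdjoinRoot P) * (AdjoinRoot.root P * (AdjoinRoot.mk P q₁ * ↑u⁻¹)) =
          AdjoinRoot.root P * AdjoinRoot.mk P q₁ * (↑u * ↑u⁻¹) := by ring
      rw [this, Units.mul_inv, mul_one, add_comm]
    rw [h6]
    exact u.isUnit.mul h5
  refine IsLocalRing.of_isUnit_or_isUnit_one_sub_self fun x => ?_
  obtain ⟨q, rfl⟩ := AdjoinRoot.mk_surjective x
  rcases IsLocalRing.isUnit_or_isUnit_one_sub_self (q.coeff 0) with h | h
  · exact Or.inl (key q h)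
  · right
    have : (1 : AdjoinRoot P) - AdjoinRoot.mk P q = AdjoinRoot.mk P (1 - q) := by
      rw [map_sub, map_one]
    rw [this]
    apply key
    simpa using h

end AR

section
variable {R : Type u} [CommRing R] [HenselianLocalRing R] {P : R[X]}

theorem henselianRing_adjoinRoot (hP : IsW P) (hn : P.natDegree ≠ 0) :
    HenselianRing (AdjoinRoot P) (Ideal.span {AdjoinRoot.root P}) := by
  haveI := isLocalRing_adjoinRoot hP hn
  haveI : Module.Finite R (AdjoinRoot P) := hP.1.finite_adjoinRoot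
  haveI := henselianLocalRing_of_finite R (AdjoinRoot P)
  have h1 : Gabber (AdjoinRoot P) (maximalIdeal (AdjoinRoot P)) := Gabber.of_henselianLocalRing _
  refine (h1.of_le ?_).henselianRing
  rw [Ideal.span_singleton_le_iff_mem, ← IsLocalRing.jacobson_eq_maximalIdeal _ bot_ne_top]
  exact root_mem_jacobson hP

variable {B : Type u} [CommRing B] [Algebra R B] [Algebra R[X] B] [IsScalarTower R R[X] B]
variable (hB : Hens2.IsPairHenselization R[X] (Ideal.span {(X : R[X])}) B)
include hB

/-- **Lemma W**: division by a Weierstrass polynomial in the henselization. -/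
theorem lemmaW (hP : IsW P) :
    (∀ b : B, ∃ q : R[X], algebraMap R[X] B q - b ∈ Ideal.span {algebraMap R[X] B P}) ∧
    (∀ q : R[X], algebraMap R[X] B q ∈ Ideal.span {algebraMap R[X] B P} → q ∈ Ideal.span {P}) := by
  by_cases hn : P.natDegree = 0
  · have h1 : P = 1 := by
      have := hP.1.natDegree_eq_zero.mp hn
      exact this
    subst h1
    refine ⟨fun b => ⟨0, ?_⟩, fun q _ => ?_⟩
    · rw [map_one, Ideal.span_singleton_one]; trivial
    · rw [Ideal.span_singleton_one]; trivial
  have hE := henselianRing_adjoinRoot hP hn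
  have hle : (Ideal.span {(X : R[X])}).map (AdjoinRoot.mk P) ≤ Ideal.span {AdjoinRoot.root P} := by
    rw [Ideal.map_span, Set.image_singleton, AdjoinRoot.mk_X]
  obtain ⟨φ, hφ, -⟩ := hB.2 (AdjoinRoot P) _ (AdjoinRoot.mk P) hE hle
  have hφ' : ∀ q : R[X], φ (algebraMap R[X] B q) = AdjoinRoot.mk P q := fun q =>
    RingHom.congr_fun hφ q
  constructor
  · -- surjectivity
    let Cq := B ⧸ Ideal.span {algebraMap R[X] B P}
    let π : B →+* Cq := Ideal.Quotient.mk _
    have hint : Algebra.IsIntegral B Cq :=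
      Algebra.isIntegral_of_surjective Ideal.Quotient.mk_surjective
    have hC : HenselianRing Cq (((Ideal.span {(X : R[X])}).map (algebraMap R[X] B)).map
        (algebraMap B Cq)) :=
      ((Gabber.of_henselianRing hB.1).of_isIntegral).henselianRing
    let f : R[X] →+* Cq := (algebraMap B Cq).comp (algebraMap R[X] B)
    have hf : (Ideal.span {(X : R[X])}).map f ≤
        (((Ideal.span {(X : R[X])}).map (algebraMap R[X] B)).map (algebraMap B Cq)) := by
      rw [Ideal.map_map]
    have huniq := hB.2 Cq _ f hC hf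
    have hkill : ∀ a ∈ Ideal.span {P}, f a = 0 := by
      intro a ha
      obtain ⟨c, rfl⟩ := Ideal.mem_span_singleton.mp ha
      show π (algebraMap R[X] B (P * c)) = 0
      rw [Ideal.Quotient.eq_zero_iff_mem, map_mul]
      exact Ideal.mul_mem_right _ _ (Ideal.subset_span rfl)
    let ψ : AdjoinRoot P →+* Cq := Ideal.Quotient.lift (Ideal.span {P}) f hkill
    have hψ : ∀ q : R[X], ψ (AdjoinRoot.mk P q) = f q := fun q => Ideal.Quotient.lift_mk _ _ _
    have e1 : (ψ.comp φ).comp (algebraMap R[X] B) = f := by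
      refine RingHom.ext fun q => ?_
      rw [RingHom.comp_apply, RingHom.comp_apply, hφ', hψ]
    have e2 : π.comp (algebraMap R[X] B) = f := rfl
    have e3 : ψ.comp φ = π := huniq.unique e1 e2
    intro b
    obtain ⟨q, hq⟩ := AdjoinRoot.mk_surjective (φ b)
    refine ⟨q, ?_⟩
    have : π (algebraMap R[X] B q - b) = 0 := by
      rw [map_sub, ← e3, RingHom.comp_apply, RingHom.comp_apply, hφ', hq, sub_self]
    exact Ideal.Quotient.eq_zero_iff_mem.mp this
  · intro q hq
    obtain ⟨c, hc⟩ := Ideal.mem_span_singleton.mp hq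
    have := congrArg φ hc
    rw [map_mul, hφ', hφ', AdjoinRoot.mk_self, zero_mul, AdjoinRoot.mk_eq_zero] at this
    exact Ideal.mem_span_singleton.mpr this

end
end H9HW
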