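import Mathlib
import Groth.Prelude.Def_Hens2
import Groth.Agent.Lib.Helper9.HW.Finite2
import Groth.Agent.Lib.Helper9.HW.LemmaW

namespace H9HW
open Polynomial IsLocalRing
universe u

section
variable {R : Type u} [CommRing R] [HenselianLocalRing R] {B : Type u} [CommRing B] [Algebra R B]
  [Algebra R[X] B] [IsScalarTower R R[X] B]
variable (hB : Hens2.IsPairHenselization R[X] (Ideal.span {(X : R[X])}) B)
include hB

omit hB [HenselianLocalRing R] in
theorem algebraMap_eq_sum (p : R[X]) :
    algebraMap R[X] B p = ∑ i ∈ Finset.range (p.natDegree + 1),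
      algebraMap R B (p.coeff i) * (algebraMap R[X] B X) ^ i := by
  conv_lhs => rw [p.as_sum_range]
  rw [map_sum]
  refine Finset.sum_congr rfl fun i _ => ?_
  rw [← C_mul_X_pow_eq_monomial, map_mul, map_pow, IsScalarTower.algebraMap_apply R R[X] B]
  rfl

/-- existence of the Weierstrass factorization. -/
theorem exists_factor (f : B) (hf : f ∉ (maximalIdeal R).map (algebraMap R B)) :
    ∃ (P : R[X]) (u : Bˣ), IsW P ∧ f = algebraMap R[X] B P * (u : B) := by
  classical
  obtain ⟨n, g, μ, hμ, hfeq⟩ := exists_decomp hB f hf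
  have hfin := finite_quotient hB f hf
  set t : B := algebraMap R[X] B X with ht
  let mk : B →+* B ⧸ Ideal.span {f} := Ideal.Quotient.mk _
  let T := mk t
  let Q : Ideal (B ⧸ Ideal.span {f}) := (maximalIdeal R).map (algebraMap R (B ⧸ Ideal.span {f}))
  have hQ : ∀ b ∈ (maximalIdeal R).map (algebraMap R B), mk b ∈ Q := by
    intro b hb
    have := Ideal.mem_map_of_mem mk hb
    rwa [Ideal.map_map] at this
  have hTn : T ^ n ∈ Q := by
    have h1 : t ^ n = f * ((g⁻¹ : Bˣ) : B) - μ * ((g⁻¹ : Bˣ) : B) := by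
      rw [hfeq, add_mul, mul_assoc, Units.mul_inv, mul_one]; ring
    show (mk t) ^ n ∈ Q
    rw [← map_pow, h1, map_sub, map_mul mk f,
      (Ideal.Quotient.eq_zero_iff_mem.mpr (Ideal.subset_span rfl) : mk f = 0), zero_mul, zero_sub]
    exact Ideal.neg_mem_iff _ |>.mpr (hQ _ (Ideal.mul_mem_right _ _ hμ))
  let N : Submodule R (B ⧸ Ideal.span {f}) := Submodule.span R (Set.range fun i : Fin n => T ^ (i : ℕ))
  have hall : ∀ d : B ⧸ Ideal.span {f}, d ∈ N ⊔ (maximalIdeal R) • (⊤ : Submodule R (B ⧸ Ideal.span {f})) := by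
    intro d
    rw [Ideal.smul_top_eq_map]
    obtain ⟨b, rfl⟩ := Ideal.Quotient.mk_surjective d
    obtain ⟨p, hp⟩ := exists_poly_sub_mem hB n b
    obtain ⟨c, hc⟩ := Ideal.mem_span_singleton.mp hp
    have hb : b = algebraMap R[X] B p + t ^ n * c := by rw [← hc]; ring
    have h1 : mk b = ∑ i ∈ Finset.range (p.natDegree + 1), (p.coeff i) • T ^ i + T ^ n * mk c := by
      rw [hb, map_add, map_mul, map_pow, algebraMap_eq_sum, map_sum]
      congr 1
      refine Finset.sum_congr rfl fun i _ => ?_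
      rw [map_mul, map_pow, Algebra.smul_def]
      rfl
    show mk b ∈ _
    rw [h1]
    refine Submodule.add_mem _ (Submodule.sum_mem _ fun i _ => ?_)
      (Submodule.mem_sup_right (Ideal.mul_mem_right _ _ hTn))
    by_cases hi : i < n
    · exact Submodule.mem_sup_left (Submodule.smul_mem _ _ (Submodule.subset_span ⟨⟨i, hi⟩, rfl⟩))
    · refine Submodule.mem_sup_right ?_
      have : T ^ i = T ^ n * T ^ (i - n) := by rw [← pow_add]; congr 1; omega
      rw [this, Algebra.smul_def]
      exact Ideal.mul_mem_left _ _ (Ideal.mul_mem_right _ _ hTn)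
  have hjac : maximalIdeal R ≤ Ideal.jacobson (⊥ : Ideal R) := by
    rw [IsLocalRing.jacobson_eq_maximalIdeal _ bot_ne_top]
  have htop : (⊤ : Submodule R (B ⧸ Ideal.span {f})) ≤ N :=
    Submodule.le_of_le_smul_of_le_jacobson_bot (Module.Finite.fg_top) hjac
      (fun d _ => hall d)
  have hTnN : T ^ n ∈ N := htop Submodule.mem_top
  obtain ⟨a, ha⟩ := (Submodule.mem_span_range_iff_exists_fun R).mp hTnN
  let p₀ : R[X] := ∑ i : Fin n, C (a i) * X ^ (i : ℕ)
  have hdeg : p₀.degree < n := Polynomial.degree_sum_fin_lt a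
  let P : R[X] := X ^ n - p₀
  have hPm : P.Monic := Polynomial.monic_X_pow_sub hdeg
  have hPn : P.natDegree = n := by
    have h1 : p₀.natDegree < n ∨ p₀ = 0 := by
      by_cases h0 : p₀ = 0
      · exact Or.inr h0
      · exact Or.inl ((Polynomial.natDegree_lt_iff_degree_lt h0).mpr hdeg)
    rcases h1 with h1 | h1
    · rw [Polynomial.natDegree_sub_eq_left_of_natDegree_lt (by rwa [natDegree_X_pow]),
        natDegree_X_pow]
    · show (X ^ n - p₀).natDegree = n
      rw [h1, sub_zero, natDegree_X_pow]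
  have hPf : algebraMap R[X] B P ∈ Ideal.span {f} := by
    rw [← Ideal.Quotient.eq_zero_iff_mem]
    show mk (algebraMap R[X] B (X ^ n - p₀)) = 0
    rw [map_sub, map_pow, map_sub, map_pow, sub_eq_zero, ← ha, map_sum, map_sum]
    refine Finset.sum_congr rfl fun i _ => ?_
    have hC : algebraMap R[X] B (C (a i)) = algebraMap R B (a i) :=
      (IsScalarTower.algebraMap_apply R R[X] B (a i)).symm
    rw [map_mul, map_pow, map_mul, map_pow, Algebra.smul_def, hC]
    rfl
  obtain ⟨c, hc⟩ := Ideal.mem_span_singleton.mp hPf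
  have hmemn : algebraMap R[X] B P ∈ Ideal.span {t ^ n} ⊔ (maximalIdeal R).map (algebraMap R B) := by
    rw [hc, hfeq]
    have : (t ^ n * (g : B) + μ) * c = t ^ n * (g * c) + μ * c := by ring
    rw [this]
    exact Ideal.add_mem _ (Ideal.mem_sup_left (Ideal.mul_mem_right _ _ (Ideal.subset_span rfl)))
      (Ideal.mem_sup_right (Ideal.mul_mem_right _ _ hμ))
  have hW : IsW P := ⟨hPm, fun i hi => coeff_mem_of_mem_sup hB n P hmemn i (hPn ▸ hi)⟩
  obtain ⟨ρ, hρ1, hρ2⟩ := exists_retraction hB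
  have hcu : IsUnit c := by
    rw [isUnit_iff_retraction hB ρ hρ2]
    by_contra hcon
    have hm : ρ c ∈ maximalIdeal R := hcon
    obtain ⟨c₁, hc₁⟩ := Ideal.mem_span_singleton.mp (hρ2 c)
    have h1 : algebraMap R[X] B P ∈ Ideal.span {t ^ (n + 1)} ⊔
        (maximalIdeal R).map (algebraMap R B) := by
      rw [hc, hfeq]
      have hcc : c = algebraMap R B (ρ c) + t * c₁ := by rw [← hc₁]; ring
      have : (t ^ n * (g : B) + μ) * c = t ^ (n + 1) * (g * c₁) +
          (t ^ n * g * algebraMap R B (ρ c) + μ * c) := by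
        calc (t ^ n * (g : B) + μ) * c = t ^ n * g * c + μ * c := by ring
          _ = t ^ n * g * (algebraMap R B (ρ c) + t * c₁) + μ * c := by rw [← hcc]
          _ = _ := by ring
      rw [this]
      refine Ideal.add_mem _ (Ideal.mem_sup_left (Ideal.mul_mem_right _ _ (Ideal.subset_span rfl)))
        (Ideal.mem_sup_right (Ideal.add_mem _ (Ideal.mul_mem_left _ _ (Ideal.mem_map_of_mem _ hm))
          (Ideal.mul_mem_right _ _ hμ)))
    have h2 := coeff_mem_of_mem_sup hB (n + 1) P h1 n (Nat.lt_succ_self n)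
    have h3 : P.coeff n = 1 := by
      have := hPm.coeff_natDegree
      rwa [hPn] at this
    rw [h3] at h2
    exact (IsLocalRing.maximalIdeal.isMaximal R).ne_top ((Ideal.eq_top_iff_one _).mpr h2)
  refine ⟨P, hcu.unit⁻¹, hW, ?_⟩
  rw [hc, mul_assoc, IsUnit.mul_val_inv, mul_one]

end
end H9HW
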