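import Mathlib
import Groth.Prelude.Def_Hens2
import Groth.Agent.Lib.Helper9.HW.LemmaW

namespace H9HW
open Polynomial IsLocalRing
open Groth.Agent.Helper7.Hensel
universe u v

/-- unit-type polynomial in `s`: constant term `1`, higher coefficients in `m`. -/
def IsU {R : Type*} [CommRing R] [IsLocalRing R] (i' : R[X]) : Prop :=
  i'.coeff 0 = 1 ∧ ∀ j : ℕ, 1 ≤ j → i'.coeff j ∈ maximalIdeal R

theorem henselianRing_of_subsingleton (E : Type*) [CommRing E] [Subsingleton E] (I : Ideal E) :
    HenselianRing E I where
  jac := fun x _ => by rw [Subsingleton.elim x 0]; exact zero_mem _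
  is_henselian f _ a₀ _ _ := ⟨a₀, Subsingleton.elim _ _, by
    rw [Subsingleton.elim (a₀ - a₀) 0]; exact zero_mem _⟩

theorem reflect_invol' {R : Type*} [CommRing R] (N : ℕ) (f : R[X]) :
    reflect N (reflect N f) = f := by
  ext i
  rw [coeff_reflect, coeff_reflect, revAt_invol]

section U
variable {R : Type u} [CommRing R] [IsLocalRing R] {i' : R[X]}

theorem IsU.isW_reflect (hi : IsU i') : IsW (reflect i'.natDegree i') := by
  have hm : (reflect i'.natDegree i').Monic := by
    apply monic_of_natDegree_le_of_coeff_eq_one i'.natDegree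
    · refine natDegree_reflect_le.trans ?_
      simp
    · rw [coeff_reflect, revAt_le le_rfl, Nat.sub_self, hi.1]
  have hd : (reflect i'.natDegree i').natDegree = i'.natDegree := by
    apply le_antisymm
    · refine natDegree_reflect_le.trans ?_
      simp
    · apply le_natDegree_of_ne_zero
      rw [coeff_reflect, revAt_le le_rfl, Nat.sub_self, hi.1]
      exact one_ne_zero
  refine ⟨hm, fun j hj => ?_⟩
  rw [hd] at hj
  rw [coeff_reflect, revAt_le hj.le]
  exact hi.2 _ (by omega)

theorem IsW.isU_reflect {P : R[X]} (hP : IsW P) : IsU (reflect P.natDegree P) := by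
  refine ⟨?_, fun j hj => ?_⟩
  · rw [coeff_reflect, revAt_le (Nat.zero_le _), Nat.sub_zero]
    exact hP.1.coeff_natDegree
  · rw [coeff_reflect]
    by_cases hjn : j ≤ P.natDegree
    · rw [revAt_le hjn]
      exact hP.2 _ (by omega)
    · have : revAt P.natDegree j = j := revAt_eq_self_of_lt (by omega)
      rw [this, coeff_eq_zero_of_natDegree_lt (by omega)]
      exact zero_mem _

theorem IsU.one_sub_mem (hi : IsU i') :
    1 - i' ∈ (maximalIdeal R).map (algebraMap R R[X]) := by
  show 1 - i' ∈ (maximalIdeal R).map (C : R →+* R[X])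
  rw [Ideal.mem_map_C_iff]
  intro n
  rw [coeff_sub]
  rcases Nat.eq_zero_or_pos n with rfl | hn
  · rw [coeff_one_zero, hi.1, sub_self]; exact zero_mem _
  · rw [coeff_one, if_neg (by omega), zero_sub]
    exact Ideal.neg_mem_iff _ |>.mpr (hi.2 n hn)

end U

section
variable {R : Type u} [CommRing R] [HenselianLocalRing R] {P : R[X]}

theorem henselianRing_adjoinRoot' (hP : IsW P) :
    HenselianRing (AdjoinRoot P) (Ideal.span {AdjoinRoot.root P}) := by
  by_cases hn : P.natDegree = 0
  · have h1 : P = 1 := hP.1.natDegree_eq_zero.mp hn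
    subst h1
    haveI : Subsingleton (AdjoinRoot (1 : R[X])) := by
      have : (1 : AdjoinRoot (1 : R[X])) = 0 := by
        rw [← map_one (AdjoinRoot.mk (1 : R[X]))]
        exact AdjoinRoot.mk_self
      exact subsingleton_of_zero_eq_one this.symm
    exact henselianRing_of_subsingleton _ _
  · exact henselianRing_adjoinRoot hP hn

end

section K
variable {R : Type u} [CommRing R] [HenselianLocalRing R] {B : Type u} [CommRing B] [Algebra R B]
  [Algebra R[X] B] [IsScalarTower R R[X] B]
  {L : Type v} [CommRing L] [Algebra B L] [Algebra R L] [IsScalarTower R B L]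
  (ψ : R[X] →ₐ[R] L) (hψ : ψ X * algebraMap B L (algebraMap R[X] B X) = 1)

/-- the structure map `R[t] → L`. -/
noncomputable def algL (R : Type u) [CommRing R] (B : Type u) [CommRing B] [Algebra R[X] B]
    (L : Type v) [CommRing L] [Algebra B L] : R[X] →+* L :=
  (algebraMap B L).comp (algebraMap R[X] B)

omit [HenselianLocalRing R] in
theorem algL_eq_eval₂ (g : R[X]) :
    algL R B L g = eval₂ (algebraMap R L) (algebraMap B L (algebraMap R[X] B X)) g := by
  have : algL R B L = eval₂RingHom (algebraMap R L) (algebraMap B L (algebraMap R[X] B X)) := by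
    apply Polynomial.ringHom_ext
    · intro r
      rw [coe_eval₂RingHom, eval₂_C]
      show algebraMap B L (algebraMap R[X] B (C r)) = _
      rw [IsScalarTower.algebraMap_apply R B L, IsScalarTower.algebraMap_apply R R[X] B]
      rfl
    · rw [coe_eval₂RingHom, eval₂_X]; rfl
  rw [this]; rfl

include hψ in
omit [HenselianLocalRing R] in
theorem ψ_reflect_mul_pow' (N : ℕ) (f : R[X]) (hf : f.natDegree ≤ N) :
    ψ (reflect N f) * (algebraMap B L (algebraMap R[X] B X)) ^ N = algL R B L f := by
  letI : Invertible (algebraMap B L (algebraMap R[X] B X)) :=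
    ⟨ψ X, hψ, by rw [mul_comm]; exact hψ⟩
  have h := eval₂_reflect_mul_pow (algebraMap R L) (algebraMap B L (algebraMap R[X] B X)) N f hf
  have e1 : ∀ g : R[X], eval₂ (algebraMap R L) (ψ X) g = ψ g := fun g => by
    rw [← aeval_def, aeval_algHom_apply, aeval_X_left_apply]
  rw [algL_eq_eval₂, ← h]
  congr 1
  exact (e1 _).symm

end K
end H9HW
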