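import Mathlib
import Groth.Prelude.Def_Hens2
import Groth.Agent.Lib.Helper9.HW.Laurent1

namespace H9HW
open Polynomial IsLocalRing
open Groth.Agent.Helper7.Hensel
universe u v

section K
variable {R : Type u} [CommRing R] [HenselianLocalRing R] {B : Type u} [CommRing B] [Algebra R B]
  [Algebra R[X] B] [IsScalarTower R R[X] B]
  (hB : Hens2.IsPairHenselization R[X] (Ideal.span {(X : R[X])}) B)
  {L : Type v} [CommRing L] [Algebra B L] [Algebra R L] [IsScalarTower R B L]
  [IsLocalization.Away (algebraMap R[X] B X) L]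
  (ψ : R[X] →ₐ[R] L) (hψ : ψ X * algebraMap B L (algebraMap R[X] B X) = 1)

include hB hψ in
/-- (K1) the retraction `Φ : L → R[s]/(i')`. -/
theorem exists_Phi {i' : R[X]} (hi : IsU i') :
    ∃ Φ : L →+* R[X] ⧸ Ideal.span {i'}, ∀ q : R[X], Φ (ψ q) = Ideal.Quotient.mk _ q := by
  set W := reflect i'.natDegree i' with hWdef
  have hW : IsW W := hi.isW_reflect
  have hE := henselianRing_adjoinRoot' hW
  have hle : (Ideal.span {(X : R[X])}).map (AdjoinRoot.mk W) ≤ Ideal.span {AdjoinRoot.root W} := by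
    rw [Ideal.map_span, Set.image_singleton, AdjoinRoot.mk_X]
  obtain ⟨φ, hφ, -⟩ := hB.2 (AdjoinRoot W) _ (AdjoinRoot.mk W) hE hle
  have hφ' : ∀ q : R[X], φ (algebraMap R[X] B q) = AdjoinRoot.mk W q := fun q =>
    RingHom.congr_fun hφ q
  let mk : R[X] →+* R[X] ⧸ Ideal.span {i'} := Ideal.Quotient.mk _
  let h : R[X] := i'.divX
  have hi' : i' = 1 + X * h := by
    have := Polynomial.divX_mul_X_add i'
    rw [hi.1, map_one] at this
    rw [← this]; ring
  let σ : R[X] ⧸ Ideal.span {i'} := mk (-h)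
  have hmk0 : mk i' = 0 := Ideal.Quotient.eq_zero_iff_mem.mpr (Ideal.subset_span rfl)
  have hsσ : mk X * σ = 1 := by
    have : mk X * σ = 1 - mk i' := by
      show mk X * mk (-h) = 1 - mk i'
      rw [← map_mul, ← map_one mk, ← map_sub]
      congr 1
      rw [hi']; ring
    rw [this, hmk0, sub_zero]
  have hWσ : W.eval₂ (algebraMap R (R[X] ⧸ Ideal.span {i'})) σ = 0 := by
    letI : Invertible (mk X) := ⟨σ, by rw [mul_comm]; exact hsσ, hsσ⟩
    have h1 := eval₂_reflect_mul_pow (algebraMap R (R[X] ⧸ Ideal.span {i'})) (mk X)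
      i'.natDegree i' le_rfl
    have h2 : eval₂ (algebraMap R (R[X] ⧸ Ideal.span {i'})) (mk X) i' = mk i' := by
      have : (eval₂RingHom (algebraMap R (R[X] ⧸ Ideal.span {i'})) (mk X)) = mk := by
        apply Polynomial.ringHom_ext
        · intro r; rw [coe_eval₂RingHom, eval₂_C]; rfl
        · rw [coe_eval₂RingHom, eval₂_X]
      exact RingHom.congr_fun this i'
    rw [h2, hmk0] at h1
    have h3 : (⅟(mk X) : R[X] ⧸ Ideal.span {i'}) = σ := rfl
    rw [h3] at h1
    have hu : IsUnit ((mk X) ^ i'.natDegree) := (isUnit_of_invertible (mk X)).pow _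
    exact (hu.mul_left_eq_zero).mp h1
  let lft : AdjoinRoot W →+* R[X] ⧸ Ideal.span {i'} :=
    AdjoinRoot.lift (algebraMap R (R[X] ⧸ Ideal.span {i'})) σ hWσ
  let Φ₀ : B →+* R[X] ⧸ Ideal.span {i'} := lft.comp φ
  have hΦ₀t : Φ₀ (algebraMap R[X] B X) = σ := by
    show lft (φ (algebraMap R[X] B X)) = σ
    rw [hφ', AdjoinRoot.mk_X, AdjoinRoot.lift_root]
  have hu : IsUnit (Φ₀ (algebraMap R[X] B X)) := by
    rw [hΦ₀t]
    exact IsUnit.of_mul_eq_one _ (by rw [mul_comm]; exact hsσ)
  let Φ : L →+* R[X] ⧸ Ideal.span {i'} := IsLocalization.Away.lift (algebraMap R[X] B X) hu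
  have hΦ : ∀ b : B, Φ (algebraMap B L b) = Φ₀ b := fun b => IsLocalization.Away.lift_eq _ hu b
  refine ⟨Φ, ?_⟩
  have key : Φ.comp ψ.toRingHom = mk := by
    apply Polynomial.ringHom_ext
    · intro r
      show Φ (ψ (C r)) = mk (C r)
      have h1 : ψ (C r) = algebraMap B L (algebraMap R[X] B (C r)) := by
        have h0 : (C r : R[X]) = algebraMap R R[X] r := rfl
        rw [h0, ψ.commutes, IsScalarTower.algebraMap_apply R B L,
          IsScalarTower.algebraMap_apply R R[X] B]
      rw [h1, hΦ]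
      show lft (φ (algebraMap R[X] B (C r))) = mk (C r)
      rw [hφ', AdjoinRoot.mk_C, AdjoinRoot.lift_of]
      rfl
    · show Φ (ψ X) = mk X
      have h1 : Φ (ψ X) * σ = 1 := by
        rw [← hΦ₀t, ← hΦ, ← map_mul, hψ, map_one]
      calc Φ (ψ X) = Φ (ψ X) * (σ * mk X) := by rw [mul_comm σ, hsσ, mul_one]
        _ = mk X := by rw [← mul_assoc, h1, one_mul]
  intro q
  exact RingHom.congr_fun key q

end K
end H9HW

namespace H9HW
open Polynomial IsLocalRing
open Groth.Agent.Helper7.Hensel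
universe u v

section K2
variable {R : Type u} [CommRing R] [HenselianLocalRing R] {B : Type u} [CommRing B] [Algebra R B]
  [Algebra R[X] B] [IsScalarTower R R[X] B]
  (hB : Hens2.IsPairHenselization R[X] (Ideal.span {(X : R[X])}) B)
  {L : Type v} [CommRing L] [Algebra B L] [Algebra R L] [IsScalarTower R B L]
  [IsLocalization.Away (algebraMap R[X] B X) L]
  (ψ : R[X] →ₐ[R] L) (hψ : ψ X * algebraMap B L (algebraMap R[X] B X) = 1)

/-- the subring of elements of `L` congruent to an element of `ψ(R[s])` modulo `K`. -/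
def congrSubring (K : Ideal L) : Subring L where
  carrier := {ℓ | ∃ q : R[X], ψ q - ℓ ∈ K}
  mul_mem' := by
    rintro a b ⟨q₁, h₁⟩ ⟨q₂, h₂⟩
    refine ⟨q₁ * q₂, ?_⟩
    have : ψ (q₁ * q₂) - a * b = ψ q₁ * (ψ q₂ - b) + b * (ψ q₁ - a) := by
      rw [map_mul]; ring
    rw [this]
    exact Ideal.add_mem _ (Ideal.mul_mem_left _ _ h₂) (Ideal.mul_mem_left _ _ h₁)
  one_mem' := ⟨1, by rw [map_one, sub_self]; exact zero_mem _⟩
  add_mem' := by
    rintro a b ⟨q₁, h₁⟩ ⟨q₂, h₂⟩
    refine ⟨q₁ + q₂, ?_⟩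
    have : ψ (q₁ + q₂) - (a + b) = (ψ q₁ - a) + (ψ q₂ - b) := by rw [map_add]; ring
    rw [this]
    exact Ideal.add_mem _ h₁ h₂
  zero_mem' := ⟨0, by rw [map_zero, sub_self]; exact zero_mem _⟩
  neg_mem' := by
    rintro a ⟨q, h⟩
    refine ⟨-q, ?_⟩
    have : ψ (-q) - -a = -(ψ q - a) := by rw [map_neg]; ring
    rw [this]
    exact Ideal.neg_mem_iff _ |>.mpr h

omit [HenselianLocalRing R] [IsLocalization.Away (algebraMap R[X] B X) L] in
theorem mem_congrSubring_of_sub_mem (K : Ideal L) {a b : L} (ha : a ∈ congrSubring ψ K)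
    (hab : a - b ∈ K) : b ∈ congrSubring ψ K := by
  obtain ⟨q, hq⟩ := ha
  refine ⟨q, ?_⟩
  have : ψ q - b = (ψ q - a) + (a - b) := by ring
  rw [this]
  exact Ideal.add_mem _ hq hab

include hB hψ in
/-- (K2) every element of `L` is congruent to an element of `ψ(R[s])` modulo `ψ(i')`. -/
theorem exists_sub_mem_span {i' : R[X]} (hi : IsU i') (ℓ : L) :
    ∃ q : R[X], ψ q - ℓ ∈ Ideal.span {ψ i'} := by
  set W := reflect i'.natDegree i' with hWdef
  have hW : IsW W := hi.isW_reflect
  set τ : L := algebraMap B L (algebraMap R[X] B X) with hτ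
  set K : Ideal L := Ideal.span {ψ i'} with hK
  let Sg := congrSubring ψ K
  have hrel : ψ i' * τ ^ i'.natDegree = algL R B L W := by
    have := ψ_reflect_mul_pow' ψ hψ i'.natDegree W (by
      rw [hWdef]; refine natDegree_reflect_le.trans ?_; simp)
    rwa [hWdef, reflect_invol'] at this
  have hWK : algL R B L W ∈ K := by
    rw [← hrel]; exact Ideal.mul_mem_right _ _ (Ideal.subset_span rfl)
  -- τ ∈ Sg
  let h : R[X] := i'.divX
  have hi' : i' = 1 + X * h := by
    have := Polynomial.divX_mul_X_add i'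
    rw [hi.1, map_one] at this
    rw [← this]; ring
  have hτS : τ ∈ Sg := by
    refine ⟨-h, ?_⟩
    have : ψ (-h) - τ = -(τ * ψ i') := by
      rw [hi', map_add, map_one, map_mul, map_neg]
      have h2 : τ * (1 + ψ X * ψ h) = τ + (ψ X * τ) * ψ h := by ring
      rw [h2, hψ]; ring
    rw [this]
    exact Ideal.neg_mem_iff _ |>.mpr (Ideal.mul_mem_left _ _ (Ideal.subset_span rfl))
  have hCS : ∀ r : R, algL R B L (C r) ∈ Sg := by
    intro r
    refine ⟨C r, ?_⟩
    have h0 : (C r : R[X]) = algebraMap R R[X] r := rfl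
    have : ψ (C r) = algL R B L (C r) := by
      rw [h0, ψ.commutes]
      show _ = algebraMap B L (algebraMap R[X] B (algebraMap R R[X] r))
      rw [IsScalarTower.algebraMap_apply R B L, IsScalarTower.algebraMap_apply R R[X] B]
    rw [this, sub_self]; exact zero_mem _
  have hpS : ∀ p : R[X], algL R B L p ∈ Sg := by
    intro p
    induction p using Polynomial.induction_on with
    | C a => exact hCS a
    | add p q hp hq => rw [map_add]; exact Sg.add_mem hp hq
    | monomial n a ih =>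
      rw [pow_succ, ← mul_assoc, map_mul]
      exact Sg.mul_mem ih hτS
  have hbS : ∀ b : B, algebraMap B L b ∈ Sg := by
    intro b
    obtain ⟨p, hp⟩ := (lemmaW hB hW).1 b
    obtain ⟨c, hc⟩ := Ideal.mem_span_singleton.mp hp
    refine mem_congrSubring_of_sub_mem ψ K (hpS p) ?_
    have : algL R B L p - algebraMap B L b = algL R B L W * algebraMap B L c := by
      show algebraMap B L (algebraMap R[X] B p) - algebraMap B L b = _
      rw [← map_sub, hc, map_mul]; rfl
    rw [this]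
    exact Ideal.mul_mem_right _ _ hWK
  have hσS : ψ X ∈ Sg := ⟨X, by rw [sub_self]; exact zero_mem _⟩
  obtain ⟨k, b, hb⟩ := IsLocalization.Away.surj (algebraMap R[X] B X) ℓ
  have hℓ : ℓ = algebraMap B L b * (ψ X) ^ k := by
    rw [← hb, mul_assoc, ← mul_pow, mul_comm τ, hψ, one_pow, mul_one]
  have : ℓ ∈ Sg := by
    rw [hℓ]
    exact Sg.mul_mem (hbS b) (Sg.pow_mem hσS k)
  exact this

end K2
end H9HW
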