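import Mathlib
import Groth.Prelude.Def_W4bk4goldsch45
import Groth.Agent.Lib.Helper9.Zeta.Zeta6
import Groth.Agent.Lib.Helper9.FFExt.Weier4
import Groth.Agent.Lib.Helper9.FFExt.Gal

/-! Hasse–Weil, part 1: the Stepanov–Bombieri bound, twisted by an automorphism. -/

namespace Groth.Agent.Helper9.HW

open FunFld Groth.Agent.Lib.Helper4.FF Groth.Agent.Helper9.FFExt Groth.Agent.Helper9.Zeta WithZero

section Frob

variable {k E : Type*} [Field k] [Field E] [Algebra k E]

/-- `Q` is a Frobenius place for `σ` and the exponent `N`: `σ z ≡ z ^ N` modulo `Q` on `O_Q` -/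
def IsFrob (σ : E ≃ₐ[k] E) (N : ℕ) (Q : Place k E) : Prop :=
  ∀ z : E, Q.1 z ≤ 1 → Q.1 (σ z - z ^ N) < 1

theorem IsFrob.le_one {σ : E ≃ₐ[k] E} {N : ℕ} {Q : Place k E} (h : IsFrob σ N Q) {z : E}
    (hz : Q.1 z ≤ 1) : Q.1 (σ z) ≤ 1 := by
  have h1 := h z hz
  have : σ z = (σ z - z ^ N) + z ^ N := by ring
  rw [this]
  refine (Q.1.map_add _ _).trans (max_le h1.le ?_)
  rw [map_pow]
  exact pow_le_one' hz N

theorem IsFrob.lt_one {σ : E ≃ₐ[k] E} {N : ℕ} (hN : 0 < N) {Q : Place k E} (h : IsFrob σ N Q)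
    {z : E} (hz : Q.1 z < 1) : Q.1 (σ z) < 1 := by
  have h1 := h z hz.le
  have : σ z = (σ z - z ^ N) + z ^ N := by ring
  rw [this]
  refine lt_of_le_of_lt (Q.1.map_add _ _) (max_lt h1 ?_)
  rw [map_pow]
  exact pow_lt_one' hz hN.ne'

/-- a Frobenius place is stable under `σ` -/
theorem IsFrob.comapPlace_eq {σ : E ≃ₐ[k] E} {N : ℕ} (hN : 0 < N) {Q : Place k E}
    (h : IsFrob σ N Q) : comapPlace σ Q = Q :=
  comapPlace_eq_of_fixed σ fun _ hx => h.lt_one hN hx

theorem IsFrob.symm_le_one {σ : E ≃ₐ[k] E} {N : ℕ} (hN : 0 < N) {Q : Place k E}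
    (h : IsFrob σ N Q) {z : E} (hz : Q.1 z ≤ 1) : Q.1 (σ.symm z) ≤ 1 := by
  have h1 := h.comapPlace_eq hN
  have h2 : (comapPlace σ Q).1 (σ.symm z) = Q.1 z := by
    rw [comapPlace_apply, σ.apply_symm_apply]
  rw [h1] at h2
  rw [h2]
  exact hz

theorem comapPlace_deg (σ : E ≃ₐ[k] E) (Q : Place k E) : (comapPlace σ Q).deg = Q.deg := by
  have h := conj_deg (k := k) (K := k) (K' := E) σ Q
  have e : comapPlace σ Q = conj (k := k) (K := k) σ Q := Subtype.ext rfl
  rw [e]
  exact h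

end Frob

section Stepanov

variable {k E : Type*} [Field k] [Field E] [Algebra k E]

theorem nsmul_single (n : ℕ) (P : Place k E) (a : ℤ) :
    n • (Finsupp.single P a : Divisor k E) = Finsupp.single P ((n : ℤ) * a) := by
  classical
  ext Q
  rw [Finsupp.smul_apply, Finsupp.single_apply, Finsupp.single_apply]
  split_ifs
  · simp
  · simp

theorem pow_mem_L {D : Divisor k E} {x : E} (hx : x ∈ L D) (n : ℕ) : x ^ n ∈ L (n • D) := by
  intro P
  rw [map_pow, Finsupp.smul_apply, exp_nsmul]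
  exact pow_le_pow_left₀ zero_le (hx P) n

/-- functions with prescribed pole orders at a rational place -/
theorem exists_pole_fun (hK : IsFunctionField k E) (Q₀ : Place k E) (hQ₀ : Q₀.deg = 1) (m : ℕ) :
    ∃ (T : Finset ℕ) (u : ℕ → E), (∀ i ∈ T, i ≤ m) ∧ m + 1 ≤ T.card + genus k E ∧
      ∀ i ∈ T, u i ≠ 0 ∧ u i ∈ L (Finsupp.single Q₀ (m : ℤ) : Divisor k E) ∧
        Q₀.1 (u i) = exp (i : ℤ) := by
  classical
  have key : ∀ n : ℕ, ¬ IsGap Q₀ n →
      ∃ x : E, x ≠ 0 ∧ x ∈ L (Finsupp.single Q₀ (n : ℤ) : Divisor k E) ∧ Q₀.ord x = -(n : ℤ) := by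
    intro n hn
    unfold IsGap at hn
    have hlt : L (Finsupp.single Q₀ ((n : ℤ) - 1) : Divisor k E) < L (Finsupp.single Q₀ (n : ℤ)) :=
      lt_of_le_of_ne (L_single_mono Q₀ (by omega)) (Ne.symm hn)
    obtain ⟨x, hx, hx'⟩ := SetLike.exists_of_lt hlt
    have hx0 : x ≠ 0 := by
      rintro rfl
      exact hx' (Submodule.zero_mem _)
    have hx2 : x ∈ L (Finsupp.single Q₀ (((n : ℤ) - 1) + 1) : Divisor k E) := by
      rwa [sub_add_cancel]
    have := ord_eq_of_mem_of_not_mem hx2 hx'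
    refine ⟨x, hx0, hx, ?_⟩
    rw [this]; ring
  set T₁ : Finset ℕ := (Finset.Icc 1 m).filter (fun i => ¬ IsGap Q₀ i) with hT₁
  have hex : ∀ i : ℕ, ∃ x : E, i ∈ T₁ →
      x ≠ 0 ∧ x ∈ L (Finsupp.single Q₀ (i : ℤ) : Divisor k E) ∧ Q₀.ord x = -(i : ℤ) := by
    intro i
    by_cases hi : i ∈ T₁
    · obtain ⟨x, hx⟩ := key i (Finset.mem_filter.mp hi).2
      exact ⟨x, fun _ => hx⟩
    · exact ⟨0, fun h => absurd h hi⟩
  choose u₁ hu₁ using hex
  refine ⟨insert 0 T₁, fun i => if i = 0 then 1 else u₁ i, ?_, ?_, ?_⟩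
  · intro i hi
    rw [Finset.mem_insert] at hi
    rcases hi with rfl | hi
    · exact Nat.zero_le _
    · exact (Finset.mem_Icc.mp (Finset.mem_filter.mp hi).1).2
  · have h0 : (0 : ℕ) ∉ T₁ := by
      intro h
      have := (Finset.mem_Icc.mp (Finset.mem_filter.mp h).1).1
      omega
    rw [Finset.card_insert_of_notMem h0]
    have h1 := ell_add_gapCount hK Q₀ hQ₀ m
    have h2 := le_genus hK (Finsupp.single Q₀ (m : ℤ) : Divisor k E)
    rw [Divisor.deg_single, hQ₀] at h2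
    have h3 : T₁.card + gapCount Q₀ m = m := by
      unfold gapCount
      rw [hT₁, add_comm, Finset.card_filter_add_card_filter_not]
      simp
    have h4 : (gapCount Q₀ m : ℤ) ≤ genus k E := by
      have : (ell (Finsupp.single Q₀ (m : ℤ) : Divisor k E) : ℤ) + gapCount Q₀ m = m + 1 := by
        exact_mod_cast h1
      push_cast at h2
      linarith
    have h5 : gapCount Q₀ m ≤ genus k E := by exact_mod_cast h4
    omega
  · intro i hi
    rw [Finset.mem_insert] at hi
    by_cases hi0 : i = 0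
    · subst hi0
      simp only [if_true]
      refine ⟨one_ne_zero, ?_, by simp⟩
      intro P
      rw [map_one]
      by_cases hP : P = Q₀
      · subst hP
        rw [Finsupp.single_eq_same, ← exp_zero, exp_le_exp]
        exact Int.natCast_nonneg m
      · rw [Finsupp.single_eq_of_ne hP, exp_zero]
    · rcases hi with h | hi
      · exact absurd h hi0
      · simp only [if_neg hi0]
        obtain ⟨h1, h2, h3⟩ := hu₁ i hi
        refine ⟨h1, L_single_mono Q₀ (by
          have := (Finset.mem_Icc.mp (Finset.mem_filter.mp hi).1).2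
          exact_mod_cast this) h2, ?_⟩
        rw [Place.val_eq_exp_neg_ord Q₀ h1, h3, neg_neg]

/-- **Stepanov–Bombieri**: the Frobenius places of a twist have total degree at most
`q₀² + (2g+1) q₀ - 1` (apart from the pole `Q₀`) -/
theorem stepanov (hK : IsFunctionField k E) {p : ℕ} [Fact p.Prime] [CharP k p] (a : ℕ)
    (hq₀ : (genus k E + 1) ^ 2 < p ^ a) (Q₀ : Place k E) (hQ₀ : Q₀.deg = 1) (σ : E ≃ₐ[k] E)
    (S : Finset (Place k E)) (hS : ∀ P ∈ S, IsFrob σ ((p ^ a) ^ 2) P ∧ P ≠ Q₀) :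
    ∑ P ∈ S, P.deg ≤ (p ^ a - 1) + p ^ a * (2 * genus k E + p ^ a) := by
  classical
  have hcharE : CharP E p := charP_of_injective_algebraMap (algebraMap k E).injective p
  set g := genus k E with hg
  set q₀ := p ^ a with hq₀def
  have hq₀pos : 0 < q₀ := by
    have : 0 < (g + 1) ^ 2 := by positivity
    omega
  have hN : 0 < q₀ ^ 2 := by positivity
  set m := q₀ - 1 with hm
  set n := 2 * g + q₀ with hn
  obtain ⟨T, u, hTm, hTcard, hu⟩ := exists_pole_fun hK Q₀ hQ₀ m
  set Q₀' : Place k E := comapPlace σ Q₀ with hQ₀'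
  have hQ₀'deg : Q₀'.deg = 1 := by
    rw [hQ₀', comapPlace_deg, hQ₀]
  set V : Submodule k E := L (Finsupp.single Q₀ (n : ℤ) : Divisor k E) with hV
  set DW : Divisor k E := Finsupp.single Q₀' ((q₀ : ℤ) * (m : ℤ)) + Finsupp.single Q₀ (n : ℤ)
    with hDW
  set W : Submodule k E := L DW with hW
  have hfinV : Module.Finite k V := L_finite hK _
  have hfinW : Module.Finite k W := L_finite hK _
  set w : ℕ → E := fun j => σ.symm (u j) with hw
  have hwmem : ∀ j ∈ T, w j ∈ L (Finsupp.single Q₀' (m : ℤ) : Divisor k E) := by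
    intro j hj
    rw [hQ₀', mem_L_comapPlace_iff, hw]
    simp only [AlgEquiv.apply_symm_apply]
    exact (hu j hj).2.1
  have hq₀g : (g + 1) ^ 2 < q₀ := hq₀
  have hgq : g < q₀ := by nlinarith
  -- the linear map Λ
  let Λ₀ : (T → V) →ₗ[k] E :=
    ∑ j : T, (LinearMap.mulLeft k (w j ^ q₀)).comp (V.subtype.comp (LinearMap.proj j))
  have hΛ₀ : ∀ z : T → V, Λ₀ z = ∑ j : T, w j ^ q₀ * (z j : E) := by
    intro z
    simp only [Λ₀, LinearMap.sum_apply, LinearMap.comp_apply, LinearMap.mulLeft_apply,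
      LinearMap.proj_apply, Submodule.subtype_apply]
  have hΛmem : ∀ z : T → V, Λ₀ z ∈ W := by
    intro z
    rw [hΛ₀]
    refine Submodule.sum_mem _ fun j _ => ?_
    have h1 := pow_mem_L (hwmem j j.2) q₀
    have h2 : (z j : E) ∈ L (Finsupp.single Q₀ (n : ℤ) : Divisor k E) := (z j).2
    have h3 := mul_mem_L_add h1 h2
    rw [nsmul_single] at h3
    exact h3
  let Λ : (T → V) →ₗ[k] W := Λ₀.codRestrict W hΛmem
  -- dimensions
  have hdegDW : DW.deg = (q₀ : ℤ) * m + n := by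
    rw [hDW, Divisor.deg_add, Divisor.deg_single, Divisor.deg_single, hQ₀, hQ₀'deg]
    push_cast; ring
  have hm1 : (m : ℤ) = q₀ - 1 := by
    rw [hm, Nat.cast_sub hq₀pos]; simp
  have hellW : (Module.finrank k W : ℤ) = (q₀ : ℤ) * m + n + 1 - g := by
    have := ell_eq_of_deg_ge hK (D := DW) (by
      rw [hdegDW, hn, hm1]
      push_cast
      have : (0 : ℤ) ≤ (q₀ : ℤ) * (q₀ - 1) := by
        have : (1 : ℤ) ≤ q₀ := by exact_mod_cast hq₀pos
        nlinarith
      linarith)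
    rw [hdegDW] at this
    exact this
  have hellV : (Module.finrank k V : ℤ) = (n : ℤ) + 1 - g := by
    have := ell_eq_of_deg_ge hK (D := (Finsupp.single Q₀ (n : ℤ) : Divisor k E)) (by
      rw [Divisor.deg_single, hQ₀, hn]
      push_cast
      linarith)
    rw [Divisor.deg_single, hQ₀] at this
    rw [hV]
    have h2 : (ell (Finsupp.single Q₀ (n : ℤ) : Divisor k E) : ℤ) = (n : ℤ) * 1 + 1 - g := by
      exact_mod_cast this
    rw [mul_one] at h2
    exact h2
  have hdim : Module.finrank k W < Module.finrank k (T → V) := by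
    rw [Module.finrank_pi_fintype]
    simp only [Finset.sum_const, Finset.card_univ, Fintype.card_coe, smul_eq_mul]
    have h1 : ((T.card * Module.finrank k V : ℕ) : ℤ) = (T.card : ℤ) * ((n : ℤ) + 1 - g) := by
      push_cast; rw [hellV]
    have h2 : (q₀ : ℤ) - g ≤ T.card := by
      have : ((m + 1 : ℕ) : ℤ) ≤ ((T.card + g : ℕ) : ℤ) := by exact_mod_cast hTcard
      push_cast at this
      linarith
    have h3 : ((g + 1) ^ 2 : ℤ) < q₀ := by exact_mod_cast hq₀g
    have h4 : (0 : ℤ) ≤ g := Int.natCast_nonneg g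
    have h5 : (Module.finrank k W : ℤ) < ((T.card * Module.finrank k V : ℕ) : ℤ) := by
      rw [h1, hellW, hm1, hn]
      push_cast
      have h6 : (0 : ℤ) < (2 * (g : ℤ) + q₀ + 1 - g) := by linarith
      calc (q₀ : ℤ) * (q₀ - 1) + (2 * (g : ℤ) + q₀) + 1 - g
          < ((q₀ : ℤ) - g) * (2 * (g : ℤ) + q₀ + 1 - g) := by nlinarith
        _ ≤ (T.card : ℤ) * (2 * (g : ℤ) + q₀ + 1 - g) := mul_le_mul_of_nonneg_right h2 h6.le
    exact_mod_cast h5
  have hker : LinearMap.ker Λ ≠ ⊥ := LinearMap.ker_ne_bot_of_finrank_lt hdim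
  obtain ⟨z, hzker, hz0⟩ := Submodule.exists_mem_ne_zero_of_ne_bot hker
  have hΛz : ∑ j : T, w j ^ q₀ * (z j : E) = 0 := by
    rw [← hΛ₀]
    have := congrArg (fun x : W => (x : E)) (LinearMap.mem_ker.mp hzker)
    exact this
  -- (e) the function y
  set y : E := ∑ j : T, u j * (z j : E) ^ q₀ with hy
  have hy0 : y ≠ 0 := by
    set T' : Finset T := Finset.univ.filter (fun j => (z j : E) ≠ 0) with hT'
    have hT'ne : T'.Nonempty := by
      by_contra hne
      rw [Finset.not_nonempty_iff_eq_empty] at hne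
      apply hz0
      funext j
      have h1 : j ∉ T' := by rw [hne]; exact Finset.notMem_empty _
      rw [hT', Finset.mem_filter] at h1
      push Not at h1
      exact Subtype.ext (h1 (Finset.mem_univ _))
    have hsum : y = ∑ j ∈ T', u j * (z j : E) ^ q₀ := by
      rw [hy, hT', Finset.sum_filter]
      refine Finset.sum_congr rfl fun j _ => ?_
      split_ifs with h
      · rfl
      · push Not at h
        rw [h, zero_pow hq₀pos.ne', mul_zero]
    have hval : ∀ j ∈ T', Q₀.1 (u j * (z j : E) ^ q₀)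
        = exp ((j : ℤ) - q₀ * Q₀.ord (z j : E)) := by
      intro j hj
      have hzj : (z j : E) ≠ 0 := (Finset.mem_filter.mp hj).2
      rw [map_mul, map_pow, (hu j j.2).2.2, Place.val_eq_exp_neg_ord Q₀ hzj, ← exp_nsmul,
        ← exp_add]
      congr 1
      simp only [nsmul_eq_mul]
      ring
    obtain ⟨i, hi, hsumval⟩ := exists_val_sum_eq Q₀.1 T' hT'ne
      (fun j => u j * (z j : E) ^ q₀) (by
      intro i hi j hj hij
      rw [hval i hi, hval j hj, exp_inj] at hij
      have hi' := hTm i i.2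
      have hj' := hTm j j.2
      have hdvd : (q₀ : ℤ) ∣ ((i : ℕ) : ℤ) - ((j : ℕ) : ℤ) :=
        ⟨Q₀.ord (z i : E) - Q₀.ord (z j : E), by linarith⟩
      have habs : |((i : ℕ) : ℤ) - ((j : ℕ) : ℤ)| < (q₀ : ℤ) := by
        rw [abs_lt]
        constructor <;> omega
      have := Int.eq_zero_of_abs_lt_dvd hdvd habs
      apply Subtype.ext
      omega)
    intro h0
    rw [← hsum, h0, map_zero, hval i hi] at hsumval
    exact exp_ne_zero hsumval.symm
  -- (f) y vanishes at the Frobenius places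
  have hyS : ∀ P ∈ S, P.1 y < 1 := by
    intro P hP
    obtain ⟨hFrob, hPQ₀⟩ := hS P hP
    have hPQ₀' : P ≠ Q₀' := by
      intro h
      have h1 := hFrob.comapPlace_eq hN
      have h2 : comapPlace σ P = comapPlace σ Q₀ := h1.trans h
      exact hPQ₀ (comapPlace_injective σ h2)
    have hu1 : ∀ j : T, P.1 (u j) ≤ 1 := by
      intro j
      have := (hu j j.2).2.1 P
      rwa [Finsupp.single_eq_of_ne hPQ₀, exp_zero] at this
    have hw1 : ∀ j : T, P.1 (w j) ≤ 1 := by
      intro j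
      have := hwmem j j.2 P
      rwa [Finsupp.single_eq_of_ne hPQ₀', exp_zero] at this
    have hz1 : ∀ j : T, P.1 (z j : E) ≤ 1 := by
      intro j
      have := (z j).2 P
      rwa [Finsupp.single_eq_of_ne hPQ₀, exp_zero] at this
    have hdecomp : y = ∑ j : T, (u j - w j ^ (q₀ ^ 2)) * (z j : E) ^ q₀ := by
      have h0 : ∑ j : T, w j ^ (q₀ ^ 2) * (z j : E) ^ q₀ = 0 := by
        have : ∑ j : T, w j ^ (q₀ ^ 2) * (z j : E) ^ q₀
            = (∑ j : T, w j ^ q₀ * (z j : E)) ^ q₀ := by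
          have h := sum_pow_char_pow (R := E) p a Finset.univ (fun j : T => w j ^ q₀ * (z j : E))
          rw [← hq₀def] at h
          rw [h]
          refine Finset.sum_congr rfl fun j _ => ?_
          rw [mul_pow, sq, pow_mul]
        rw [this, hΛz, zero_pow hq₀pos.ne']
      rw [hy, ← sub_zero (∑ j : T, u j * (z j : E) ^ q₀), ← h0, ← Finset.sum_sub_distrib]
      refine Finset.sum_congr rfl fun j _ => ?_
      ring
    rw [hdecomp]
    refine Valuation.map_sum_lt _ one_ne_zero fun j _ => ?_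
    rw [map_mul, map_pow]
    have h1 : P.1 (u j - w j ^ (q₀ ^ 2)) < 1 := by
      have := hFrob (w j) (hw1 j)
      rw [hw] at this
      simp only [AlgEquiv.apply_symm_apply] at this
      exact this
    calc P.1 (u j - w j ^ (q₀ ^ 2)) * P.1 (z j : E) ^ q₀
        ≤ P.1 (u j - w j ^ (q₀ ^ 2)) * 1 := mul_le_mul' le_rfl (pow_le_one' (hz1 j) q₀)
      _ < 1 := by rw [mul_one]; exact h1
  -- (g) the divisor
  set D : Divisor k E :=
    Finsupp.single Q₀ ((m : ℤ) + q₀ * n) - ∑ P ∈ S, Finsupp.single P (1 : ℤ) with hD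
  have hyQ₀ : Q₀.1 y ≤ exp ((m : ℤ) + q₀ * n) := by
    rw [hy]
    refine Valuation.map_sum_le _ fun j _ => ?_
    rw [map_mul, map_pow, exp_add]
    have h1 := (hu j j.2).2.1 Q₀
    rw [Finsupp.single_eq_same] at h1
    have h2 := (z j).2 Q₀
    rw [Finsupp.single_eq_same] at h2
    have h3 : Q₀.1 (z j : E) ^ q₀ ≤ exp ((q₀ : ℤ) * n) := by
      have := pow_le_pow_left₀ zero_le h2 q₀
      rwa [← exp_nsmul, nsmul_eq_mul] at this
    exact mul_le_mul' h1 h3
  have hyall : ∀ P : Place k E, P ≠ Q₀ → P.1 y ≤ 1 := by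
    intro P hPQ₀
    rw [hy]
    refine Valuation.map_sum_le _ fun j _ => ?_
    rw [map_mul, map_pow]
    have h1 := (hu j j.2).2.1 P
    rw [Finsupp.single_eq_of_ne hPQ₀, exp_zero] at h1
    have h2 := (z j).2 P
    rw [Finsupp.single_eq_of_ne hPQ₀, exp_zero] at h2
    calc P.1 (u j) * P.1 (z j : E) ^ q₀ ≤ 1 * 1 := mul_le_mul' h1 (pow_le_one' h2 q₀)
      _ = 1 := one_mul 1
  have hsumS : ∀ P : Place k E,
      (∑ P' ∈ S, (Finsupp.single P' (1 : ℤ) : Divisor k E)) P = if P ∈ S then 1 else 0 := by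
    intro P
    rw [Finsupp.finsetSum_apply]
    simp only [Finsupp.single_apply]
    rw [Finset.sum_ite_eq']
  have hyL : y ∈ L D := by
    intro P
    rw [hD, Finsupp.sub_apply, hsumS]
    by_cases hPS : P ∈ S
    · have hPQ₀ := (hS P hPS).2
      rw [Finsupp.single_eq_of_ne hPQ₀, if_pos hPS, zero_sub]
      exact lt_one_iff_le_exp_neg_one.mp (hyS P hPS)
    · rw [if_neg hPS, sub_zero]
      by_cases hPQ₀ : P = Q₀
      · subst hPQ₀
        rw [Finsupp.single_eq_same]
        exact hyQ₀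
      · rw [Finsupp.single_eq_of_ne hPQ₀, exp_zero]
        exact hyall P hPQ₀
  have h1 := Divisor.deg_nonneg (div_add_nonneg_of_mem_L hK hy0 hyL)
  have hdegD : D.deg = (m : ℤ) + q₀ * n - ∑ P ∈ S, (P.deg : ℤ) := by
    rw [hD, Divisor.deg_sub, Divisor.deg_single, hQ₀, ← degHom_apply (∑ P ∈ S, _), map_sum]
    simp only [degHom_apply, Divisor.deg_single]
    push_cast
    ring_nf
  rw [Divisor.deg_add, deg_div hK, zero_add, hdegD] at h1
  have h2 : ((∑ P ∈ S, P.deg : ℕ) : ℤ) ≤ ((q₀ - 1 + q₀ * (2 * g + q₀) : ℕ) : ℤ) := by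
    push_cast
    have h3 : ((q₀ - 1 : ℕ) : ℤ) = (q₀ : ℤ) - 1 := hm1
    rw [h3]
    have : ((n : ℕ) : ℤ) = 2 * (g : ℤ) + q₀ := by rw [hn]; push_cast; ring
    rw [this, hm1] at h1
    linarith
  exact_mod_cast h2

end Stepanov

end Groth.Agent.Helper9.HW
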