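import Mathlib
import Groth.Agent.Lib.Helper9.HW.HW1
import Groth.Agent.Lib.Helper9.FFExt.InertiaField
import Groth.Agent.Lib.Helper9.Zeta.Zeta5

/-! Hasse–Weil, part 2: Frobenius elements of a finite Galois extension of function fields over a
finite field. -/

namespace Groth.Agent.Helper9.HW

open FunFld Groth.Agent.Lib.Helper4.FF Groth.Agent.Helper9.FFExt WithZero
open scoped Pointwise

section Abstract

attribute [local instance] Ideal.Quotient.field in
theorem exists_frob_abstract {A B G : Type*} [CommRing A] [CommRing B]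
    [Algebra A B] [Group G] [Finite G] [MulSemiringAction G B] [SMulCommClass G A B]
    [Algebra.IsInvariant A B G]
    (P : Ideal A) (Q : Ideal B) [P.IsMaximal] [Q.IsMaximal] [Q.LiesOver P] [Finite (A ⧸ P)] :
    ∃ σ : G, σ ∈ MulAction.stabilizer G Q ∧ ∀ b : B, σ • b - b ^ Nat.card (A ⧸ P) ∈ Q := by
  have := Fintype.ofFinite (A ⧸ P)
  have hint : Algebra.IsIntegral A B := Algebra.IsInvariant.isIntegral A B G
  have hint' : Algebra.IsIntegral (A ⧸ P) (B ⧸ Q) := inferInstance
  have halg : Algebra.IsAlgebraic (A ⧸ P) (B ⧸ Q) := inferInstance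
  obtain ⟨σ, hσ⟩ := Ideal.Quotient.stabilizerHom_surjective G P Q
    (FiniteField.frobeniusAlgEquivOfAlgebraic (A ⧸ P) (B ⧸ Q))
  refine ⟨σ.1, σ.2, fun b => ?_⟩
  have h1 := congrArg (fun f => f (Ideal.Quotient.mk Q b)) hσ
  simp only [Ideal.Quotient.stabilizerHom_apply,
    FiniteField.coe_frobeniusAlgEquivOfAlgebraic] at h1
  rw [← map_pow, Ideal.Quotient.eq, Nat.card_eq_fintype_card.symm] at h1
  exact h1

end Abstract

section Places

variable {k K K' : Type*} [Field k] [Field K] [Field K'] [Algebra k K] [Algebra K K']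
  [Algebra k K'] [IsScalarTower k K K'] [FiniteDimensional K K'] [IsGalois K K']

omit [IsGalois K K'] in
theorem exists_frob_decomp [Finite k] (Q : Place k K')
    (PZ : Place k (IntermediateField.fixedField ((Q.O).decompositionSubgroup K)))
    (hQ : IsOver Q PZ) (hdeg : 0 < PZ.deg) :
    ∃ σ : K' ≃ₐ[K] K', σ ∈ (Q.O).decompositionSubgroup K ∧
      ∀ z : K', Q.1 z ≤ 1 → Q.1 (σ z - z ^ (Nat.card k ^ PZ.deg)) < 1 := by
  let _ : Algebra PZ.O Q.O := (resMapO hQ).toAlgebra
  have hloc : IsLocalHom (algebraMap PZ.O Q.O) := resMapO_isLocalHom hQ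
  have halg : ∀ a : PZ.O, ((algebraMap PZ.O Q.O a : Q.O) : K') =
      algebraMap (IntermediateField.fixedField ((Q.O).decompositionSubgroup K)) K' (a : _) :=
    fun a => rfl
  have hcomm : SMulCommClass ((Q.O).decompositionSubgroup K) PZ.O Q.O := by
    refine ⟨fun σ a b => ?_⟩
    apply Subtype.ext
    rw [Algebra.smul_def, Algebra.smul_def, decomp_smul_coe]
    change (σ : K' ≃ₐ[K] K') (((algebraMap PZ.O Q.O a : Q.O) : K') * (b : K')) =
      ((algebraMap PZ.O Q.O a : Q.O) : K') * ((σ • b : Q.O) : K')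
    rw [map_mul, decomp_smul_coe, halg]
    congr 1
    exact (a : IntermediateField.fixedField ((Q.O).decompositionSubgroup K)).2 σ
  have hinv : Algebra.IsInvariant PZ.O Q.O ((Q.O).decompositionSubgroup K) := by
    refine ⟨fun b hb => ?_⟩
    have hbZ : (b : K') ∈ IntermediateField.fixedField ((Q.O).decompositionSubgroup K) := by
      intro σ
      have := congrArg (fun z : Q.O => (z : K')) (hb σ)
      exact this
    obtain ⟨e, he⟩ := hQ
    have hle : PZ.1 ⟨(b : K'), hbZ⟩ ≤ 1 := by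
      rw [← ow_le_one_iff he]
      exact (Place.mem_O_iff Q).mp b.2
    exact ⟨⟨⟨(b : K'), hbZ⟩, (Place.mem_O_iff PZ).mpr hle⟩, Subtype.ext rfl⟩
  have hcomap : (IsLocalRing.maximalIdeal Q.O).comap (algebraMap PZ.O Q.O) =
      IsLocalRing.maximalIdeal PZ.O :=
    ((IsLocalRing.local_hom_TFAE (algebraMap PZ.O Q.O)).out 0 4).mp hloc
  have hlies : (IsLocalRing.maximalIdeal Q.O).LiesOver (IsLocalRing.maximalIdeal PZ.O) :=
    ⟨hcomap.symm⟩
  have hfinD : Finite ((Q.O).decompositionSubgroup K) := inferInstance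
  have hmodfin : Module.Finite k (IsLocalRing.ResidueField PZ.O) :=
    Module.finite_of_finrank_pos hdeg
  have hfinres : Finite (IsLocalRing.ResidueField PZ.O) := Module.finite_of_finite k
  have hcard : Nat.card (IsLocalRing.ResidueField PZ.O) = Nat.card k ^ PZ.deg :=
    Module.natCard_eq_pow_finrank
  have hfinres' : Finite (PZ.O ⧸ IsLocalRing.maximalIdeal PZ.O) := hfinres
  obtain ⟨σ, -, hσ⟩ := exists_frob_abstract (G := (Q.O).decompositionSubgroup K)
    (IsLocalRing.maximalIdeal PZ.O) (IsLocalRing.maximalIdeal Q.O)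
  refine ⟨σ.1, σ.2, fun z hz => ?_⟩
  have h1 := hσ ⟨z, (Place.mem_O_iff Q).mpr hz⟩
  rw [mem_maximalIdeal_iff] at h1
  have hcard' : Nat.card (PZ.O ⧸ IsLocalRing.maximalIdeal PZ.O) = Nat.card k ^ PZ.deg := hcard
  rw [hcard'] at h1
  exact h1

end Places

section Frob2

variable {k E : Type*} [Field k] [Field E] [Algebra k E]

theorem IsFrob.val_eq {σ : E ≃ₐ[k] E} {N : ℕ} (hN : 0 < N) {Q : Place k E}
    (h : IsFrob σ N Q) (z : E) : Q.1 (σ z) = Q.1 z := by
  have h1 := h.comapPlace_eq hN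
  have h2 : (comapPlace σ Q).1 z = Q.1 (σ z) := comapPlace_apply σ Q z
  rw [h1] at h2
  exact h2.symm

theorem IsFrob.one (Q : Place k E) : IsFrob (1 : E ≃ₐ[k] E) 1 Q := by
  intro z _
  rw [pow_one, AlgEquiv.one_apply, sub_self, map_zero]
  exact zero_lt_one

theorem IsFrob.mul {σ τ : E ≃ₐ[k] E} {N M : ℕ} (hN : 0 < N) {Q : Place k E}
    (hσ : IsFrob σ N Q) (hτ : IsFrob τ M Q) : IsFrob (σ * τ) (M * N) Q := by
  intro z hz
  have h1 : (σ * τ) z - z ^ (M * N) = σ (τ z - z ^ M) + (σ (z ^ M) - (z ^ M) ^ N) := by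
    rw [AlgEquiv.mul_apply, map_sub, pow_mul]
    ring
  rw [h1]
  refine lt_of_le_of_lt (Q.1.map_add _ _) (max_lt ?_ ?_)
  · exact hσ.lt_one hN (hτ z hz)
  · apply hσ
    rw [map_pow]
    exact pow_le_one' hz M

theorem IsFrob.pow {σ : E ≃ₐ[k] E} {N : ℕ} (hN : 0 < N) {Q : Place k E}
    (h : IsFrob σ N Q) (j : ℕ) : IsFrob (σ ^ j) (N ^ j) Q := by
  induction j with
  | zero => rw [pow_zero, pow_zero]; exact IsFrob.one Q
  | succ j ih =>
    rw [pow_succ', pow_succ]
    exact IsFrob.mul hN h ih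

end Frob2

section Frob3

variable {k K K' : Type*} [Field k] [Field K] [Field K'] [Algebra k K] [Algebra K K']
  [Algebra k K'] [IsScalarTower k K K']

theorem restrictScalars_pow (σ : K' ≃ₐ[K] K') (j : ℕ) :
    (σ ^ j).restrictScalars k = (σ.restrictScalars k) ^ j := by
  induction j with
  | zero => rfl
  | succ j ih =>
    rw [pow_succ, pow_succ, ← ih]
    rfl

variable [FiniteDimensional K K'] [IsGalois K K'] [Finite k]

theorem exists_frob (hK : IsFFw k K) {Q : Place k K'} {P : Place k K} {e : ℕ}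
    (he : IsOverWith Q P e) :
    ∃ σ : K' ≃ₐ[K] K', IsFrob (σ.restrictScalars k) (Nat.card k ^ P.deg) Q := by
  obtain ⟨PZ, h1, h2, h3⟩ := decompField_facts hK he
  have hpos : 0 < PZ.deg := by rw [h3]; exact deg_pos_w hK P
  obtain ⟨σ, -, hσ⟩ := exists_frob_decomp Q PZ ⟨e, h1⟩ hpos
  exact ⟨σ, fun z hz => by rw [← h3]; exact hσ z hz⟩

theorem exists_frob_pow (hK : IsFFw k K) {Q : Place k K'} {P : Place k K} {e : ℕ}
    (he : IsOverWith Q P e) {r : ℕ} (hr : P.deg ∣ r) :
    ∃ σ : K' ≃ₐ[K] K', IsFrob (σ.restrictScalars k) (Nat.card k ^ r) Q := by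
  obtain ⟨σ, hσ⟩ := exists_frob hK he
  obtain ⟨j, rfl⟩ := hr
  refine ⟨σ ^ j, ?_⟩
  rw [restrictScalars_pow, pow_mul]
  exact hσ.pow (pow_pos Nat.card_pos _) j

omit [FiniteDimensional K K'] [IsGalois K K'] in
/-- a Frobenius place restricts to a place of degree dividing `r` -/
theorem deg_dvd_of_frob {Q : Place k K'} {P : Place k K} (hQP : IsOver Q P)
    (hdeg : 0 < P.deg) {r : ℕ}
    {σ : K' ≃ₐ[K] K'} (h : IsFrob (σ.restrictScalars k) (Nat.card k ^ r) Q) : P.deg ∣ r := by
  obtain ⟨e, he⟩ := hQP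
  have := Fintype.ofFinite k
  have hmodfin : Module.Finite k (IsLocalRing.ResidueField P.O) :=
    Module.finite_of_finrank_pos hdeg
  have hfinres : Finite (IsLocalRing.ResidueField P.O) := Module.finite_of_finite k
  have hall : ∀ y : IsLocalRing.ResidueField P.O, y ^ (Nat.card k ^ r) = y := by
    intro y
    obtain ⟨z, rfl⟩ := IsLocalRing.residue_surjective y
    rw [← map_pow, ← sub_eq_zero, ← map_sub, IsLocalRing.residue_eq_zero_iff,
      mem_maximalIdeal_iff]
    have hz : P.1 (z : K) ≤ 1 := (Place.mem_O_iff P).mp z.2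
    have h1 := h (algebraMap K K' (z : K)) ((ow_le_one_iff he _).mpr hz)
    rw [AlgEquiv.restrictScalars_apply, σ.commutes, ← map_pow, ← map_sub, ow_lt_one_iff he] at h1
    have h2 : P.1 ((z : K) ^ (Nat.card k ^ r) - (z : K)) < 1 := by
      rw [← neg_sub, Valuation.map_neg]
      exact h1
    exact h2
  have hpow : (FiniteField.frobeniusAlgHom k (IsLocalRing.ResidueField P.O)) ^ r = 1 := by
    apply AlgHom.ext
    intro y
    rw [AlgHom.coe_pow, FiniteField.coe_frobeniusAlgHom, pow_iterate, AlgHom.one_apply,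
      ← Nat.card_eq_fintype_card]
    exact hall y
  have h3 := orderOf_dvd_of_pow_eq_one hpow
  rw [FiniteField.orderOf_frobeniusAlgHom] at h3
  exact h3

end Frob3

section Count

variable {k K K' : Type*} [Field k] [Field K] [Field K'] [Algebra k K] [Algebra K K']
  [Algebra k K'] [IsScalarTower k K K'] [FiniteDimensional K K'] [IsGalois K K'] [Finite k]

/-- the Frobenius elements at `Q` form a coset of the inertia group -/
theorem card_frob (hK : IsFFw k K) {Q : Place k K'} {P : Place k K} {e : ℕ}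
    (he : IsOverWith Q P e) {r : ℕ} (hr : P.deg ∣ r) :
    Nat.card {σ : K' ≃ₐ[K] K' // IsFrob (σ.restrictScalars k) (Nat.card k ^ r) Q} = e := by
  have hN : 0 < Nat.card k ^ r := pow_pos Nat.card_pos _
  obtain ⟨σ₀, hσ₀⟩ := exists_frob_pow hK he hr
  have hK' : IsFFw k K' := isFFw_of_finite K' hK
  have hQdeg : 0 < Q.deg := deg_pos_w hK' Q
  have hsep : Algebra.IsSeparable k (IsLocalRing.ResidueField Q.O) := by
    have hfin : @Module.Finite k (IsLocalRing.ResidueField Q.O) _ _ (Place.algRes Q).toModule :=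
      Module.finite_of_finrank_pos hQdeg
    have halg : @Algebra.IsAlgebraic k (IsLocalRing.ResidueField Q.O) _ _ (Place.algRes Q) :=
      @Algebra.IsAlgebraic.of_finite k _ _ _ _ (Place.algRes Q) hfin
    exact Algebra.IsAlgebraic.isSeparable_of_perfectField
  rw [← card_inertia_eq hK he]
  symm
  have hD : ∀ τ : K' ≃ₐ[K] K', IsFrob (τ.restrictScalars k) (Nat.card k ^ r) Q →
      τ ∈ (Q.O).decompositionSubgroup K := by
    intro τ hτ
    rw [mem_decomposition_iff (k := k)]
    have h1 := hτ.comapPlace_eq hN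
    exact (Subtype.ext rfl : conj τ Q = comapPlace (τ.restrictScalars k) Q).trans h1
  have hfwd : ∀ ι : (Q.O).inertiaSubgroup K,
      IsFrob ((σ₀ * ι.1.1).restrictScalars k) (Nat.card k ^ r) Q := by
    intro ι z hz
    have h1 := (mem_inertia_iff Q ι.1).mp ι.2 z hz
    have h2 : ((σ₀ * ι.1.1).restrictScalars k) z - z ^ (Nat.card k ^ r) =
        (σ₀.restrictScalars k) ((ι.1.1 : K' ≃ₐ[K] K') z - z) +
          ((σ₀.restrictScalars k) z - z ^ (Nat.card k ^ r)) := by
      simp only [AlgEquiv.restrictScalars_apply, AlgEquiv.mul_apply, map_sub]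
      ring
    rw [h2]
    refine lt_of_le_of_lt (Q.1.map_add _ _) (max_lt ?_ (hσ₀ z hz))
    rw [hσ₀.val_eq hN]
    exact h1
  refine Nat.card_congr (Equiv.ofBijective (fun ι : (Q.O).inertiaSubgroup K =>
    (⟨σ₀ * ι.1.1, hfwd ι⟩ :
      {σ : K' ≃ₐ[K] K' // IsFrob (σ.restrictScalars k) (Nat.card k ^ r) Q})) ⟨?_, ?_⟩)
  · intro ι₁ ι₂ h
    have h1 : σ₀ * ι₁.1.1 = σ₀ * ι₂.1.1 := congrArg Subtype.val h
    exact Subtype.ext (Subtype.ext (mul_left_cancel h1))
  · rintro ⟨τ, hτ⟩
    have hmemD : σ₀⁻¹ * τ ∈ (Q.O).decompositionSubgroup K :=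
      Subgroup.mul_mem _ (Subgroup.inv_mem _ (hD σ₀ hσ₀)) (hD τ hτ)
    have hmemI : (⟨σ₀⁻¹ * τ, hmemD⟩ : (Q.O).decompositionSubgroup K) ∈
        (Q.O).inertiaSubgroup K := by
      rw [mem_inertia_iff]
      intro b hb
      change Q.1 ((σ₀⁻¹ * τ) b - b) < 1
      have h1 : Q.1 ((σ₀⁻¹ * τ) b - b) = Q.1 ((σ₀.restrictScalars k) ((σ₀⁻¹ * τ) b - b)) :=
        (hσ₀.val_eq hN _).symm
      rw [h1]
      have h2 : (σ₀.restrictScalars k) ((σ₀⁻¹ * τ) b - b) =
          ((τ.restrictScalars k) b - b ^ (Nat.card k ^ r)) -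
            ((σ₀.restrictScalars k) b - b ^ (Nat.card k ^ r)) := by
        simp only [AlgEquiv.restrictScalars_apply, AlgEquiv.mul_apply, map_sub]
        have : σ₀ (σ₀⁻¹ (τ b)) = τ b := by
          change (σ₀ * σ₀⁻¹) (τ b) = τ b
          rw [mul_inv_cancel, AlgEquiv.one_apply]
        rw [this]
        ring
      rw [h2]
      exact lt_of_le_of_lt (Valuation.map_sub _ _ _) (max_lt (hτ b hb) (hσ₀ b hb))
    refine ⟨⟨⟨σ₀⁻¹ * τ, hmemD⟩, hmemI⟩, ?_⟩
    apply Subtype.ext
    change σ₀ * (σ₀⁻¹ * τ) = τ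
    rw [mul_inv_cancel_left]

end Count

section BelowDef

variable {k K K' : Type*} [Field k] [Field K] [Field K'] [Algebra k K] [Algebra K K']
  [Algebra k K'] [IsScalarTower k K K'] [Algebra.IsAlgebraic K K']

/-- the place below -/
noncomputable def below (Q : Place k K') : Place k K := (exists_below' (K := K) Q).choose

theorem isOver_below (Q : Place k K') : IsOver Q (below (K := K) Q) :=
  (exists_below' (K := K) Q).choose_spec

theorem isOver_iff_below {Q : Place k K'} {P : Place k K} : IsOver Q P ↔ below Q = P :=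
  ⟨fun h => isOver_unique (isOver_below Q) h, fun h => h ▸ isOver_below Q⟩

end BelowDef

section Global

variable {k K K' : Type*} [Field k] [Field K] [Field K'] [Algebra k K] [Algebra K K']
  [Algebra k K'] [IsScalarTower k K K'] [FiniteDimensional K K'] [IsGalois K K'] [Finite k]

open Groth.Agent.Helper9.Zeta

open scoped Classical in
/-- **double counting of Frobenius places** -/
theorem frob_count (hK : IsFunctionField k K) {r : ℕ} (hr : 0 < r)
    (𝒬 : Finset (Place k K')) (h𝒬 : ∀ Q, Q ∈ 𝒬 ↔ (below (K := K) Q).deg ∣ r) :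
    ∑ σ : K' ≃ₐ[K] K',
      ∑ Q ∈ 𝒬.filter (fun Q => IsFrob (σ.restrictScalars k) (Nat.card k ^ r) Q), Q.deg
      = Module.finrank K K' * Ncount k K r := by
  have hKw : IsFFw k K := isFFw_of_isFunctionField hK
  -- left side
  have hL : ∑ σ : K' ≃ₐ[K] K',
      ∑ Q ∈ 𝒬.filter (fun Q => IsFrob (σ.restrictScalars k) (Nat.card k ^ r) Q), Q.deg
      = ∑ Q ∈ 𝒬, ramIdx Q (below (K := K) Q) * Q.deg := by
    simp_rw [Finset.sum_filter]
    rw [Finset.sum_comm]
    refine Finset.sum_congr rfl fun Q hQ => ?_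
    rw [← Finset.sum_filter, Finset.sum_const, smul_eq_mul]
    congr 1
    have h1 := card_frob hKw (isOver_isOverWith (isOver_below (K := K) Q)) ((h𝒬 Q).mp hQ)
    rw [← h1, Nat.card_eq_fintype_card
      (α := {σ : K' ≃ₐ[K] K' // IsFrob (σ.restrictScalars k) (Nat.card k ^ r) Q}),
      Fintype.card_subtype]
  rw [hL]
  -- right side
  set PP : Finset (Place k K) := (Pl hK r).filter (fun P => P.deg ∣ r) with hPP
  have hR : Ncount k K r = ∑ P ∈ PP, P.deg := by
    rw [Ncount_eq_sum (Pl hK r) (fun P hP => by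
      rw [mem_Pl]; exact Nat.le_of_dvd hr hP), hPP, Finset.sum_filter]
  rw [hR, Finset.mul_sum]
  have hmaps : ∀ Q ∈ 𝒬, below (K := K) Q ∈ PP := by
    intro Q hQ
    have h1 := (h𝒬 Q).mp hQ
    rw [hPP, Finset.mem_filter, mem_Pl]
    exact ⟨Nat.le_of_dvd hr h1, h1⟩
  rw [← Finset.sum_fiberwise_of_maps_to hmaps]
  refine Finset.sum_congr rfl fun P hP => ?_
  obtain ⟨-, hsum⟩ := sum_ramIdx_mul_deg_w (K' := K') hKw P
  have h2 := hsum (𝒬.filter (fun Q => below (K := K) Q = P)) (by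
    intro Q
    rw [Finset.mem_filter, h𝒬]
    constructor
    · rintro ⟨-, h⟩
      exact isOver_iff_below.mpr h
    · intro h
      have h' := isOver_iff_below.mp h
      refine ⟨?_, h'⟩
      rw [h']
      exact (Finset.mem_filter.mp hP).2)
  rw [← h2]
  refine Finset.sum_congr rfl fun Q hQ => ?_
  rw [(Finset.mem_filter.mp hQ).2]

end Global

end Groth.Agent.Helper9.HW
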