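import Mathlib
import Groth.Agent.Lib.Helper9.HW.HW2

/-! Hasse–Weil, part 3: the lower bound for the number of places of a subfield of a Galois
extension of a rational function field. -/

namespace Groth.Agent.Helper9.HW

open FunFld Groth.Agent.Lib.Helper4.FF Groth.Agent.Helper9.FFExt Groth.Agent.Helper9.Zeta WithZero

section QQ

variable {k K K' : Type*} [Field k] [Field K] [Field K'] [Algebra k K] [Algebra K K']
  [Algebra k K'] [IsScalarTower k K K'] [FiniteDimensional K K'] [Finite k]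

open scoped Classical in
/-- the places of `K'` lying over a place of degree dividing `r` -/
noncomputable def QQ (hK : IsFunctionField k K) (r : ℕ) : Finset (Place k K') :=
  ((Pl hK r).filter (fun P => P.deg ∣ r)).biUnion
    (fun P => (sum_ramIdx_mul_deg_w (K' := K') (isFFw_of_isFunctionField hK) P).1.toFinset)

theorem mem_QQ (hK : IsFunctionField k K) {r : ℕ} (hr : 0 < r) (Q : Place k K') :
    Q ∈ QQ (K' := K') hK r ↔ (below (K := K) Q).deg ∣ r := by
  classical
  unfold QQ
  rw [Finset.mem_biUnion]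
  constructor
  · rintro ⟨P, hP, hQ⟩
    rw [Set.Finite.mem_toFinset] at hQ
    have h1 : IsOver Q P := hQ
    rw [isOver_iff_below.mp h1]
    exact (Finset.mem_filter.mp hP).2
  · intro h
    refine ⟨below Q, ?_, ?_⟩
    · rw [Finset.mem_filter, mem_Pl]
      exact ⟨Nat.le_of_dvd hr h, h⟩
    · rw [Set.Finite.mem_toFinset]
      exact isOver_below Q

end QQ

section Main

variable {k F K E : Type*} [Field k] [Finite k] [Field F] [Field K] [Field E]
  [Algebra k F] [Algebra k K] [Algebra k E] [Algebra F K] [Algebra K E] [Algebra F E]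
  [IsScalarTower k F K] [IsScalarTower k K E] [IsScalarTower F K E] [IsScalarTower k F E]

omit [Finite k] in
theorem stepanov' (hE : IsFunctionField k E) {p : ℕ} [Fact p.Prime] [CharP k p] (a : ℕ)
    (hq₀ : (genus k E + 1) ^ 2 < p ^ a) (Q₀ : Place k E) (hQ₀ : Q₀.deg = 1) (σ : E ≃ₐ[k] E)
    (S : Finset (Place k E)) (hS : ∀ P ∈ S, IsFrob σ ((p ^ a) ^ 2) P) :
    ∑ P ∈ S, P.deg ≤ (p ^ a) ^ 2 + (2 * genus k E + 1) * p ^ a := by
  classical
  have h := stepanov hE a hq₀ Q₀ hQ₀ σ (S.erase Q₀)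
    (fun P hP => ⟨hS P (Finset.mem_of_mem_erase hP), Finset.ne_of_mem_erase hP⟩)
  have h1 : ∑ P ∈ S, P.deg ≤ 1 + ∑ P ∈ S.erase Q₀, P.deg := by
    by_cases hmem : Q₀ ∈ S
    · rw [← Finset.add_sum_erase S _ hmem, hQ₀]
    · rw [Finset.erase_eq_of_notMem hmem]
      omega
  have hpos : 0 < p ^ a := by
    have : 0 < (genus k E + 1) ^ 2 := by positivity
    omega
  obtain ⟨y, hy⟩ : ∃ y, p ^ a = y + 1 := ⟨p ^ a - 1, by omega⟩
  rw [hy] at h ⊢
  have h2 : y + 1 - 1 = y := by omega
  rw [h2] at h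
  calc ∑ P ∈ S, P.deg ≤ 1 + (y + (y + 1) * (2 * genus k E + (y + 1))) := h1.trans (by omega)
    _ = (y + 1) ^ 2 + (2 * genus k E + 1) * (y + 1) := by ring

variable [FiniteDimensional F E] [IsGalois F E]

omit [IsScalarTower k F K] in
/-- **The Bombieri lower bound.** -/
theorem main_estimate (hE : IsFunctionField k E) (hF : IsFunctionField k F)
    (hK : IsFunctionField k K) {p : ℕ} [Fact p.Prime] [CharP k p] (a : ℕ)
    (hq₀ : (genus k E + 1) ^ 2 < p ^ a) {r : ℕ} (hr0 : 0 < r)
    (hr : Nat.card k ^ r = (p ^ a) ^ 2)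
    (Q₀ : Place k E) (hQ₀ : Q₀.deg = 1) :
    Module.finrank F E * Ncount k F r ≤ Module.finrank K E * Ncount k K r +
      (Module.finrank F E - Module.finrank K E) *
        ((p ^ a) ^ 2 + (2 * genus k E + 1) * p ^ a) := by
  classical
  have hfdK : FiniteDimensional K E := FiniteDimensional.right F K E
  have hgalK : IsGalois K E := IsGalois.tower_top_of_isGalois F K E
  set B := (p ^ a) ^ 2 + (2 * genus k E + 1) * p ^ a with hB
  set QF : Finset (Place k E) := QQ (K' := E) hF r with hQF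
  set QK : Finset (Place k E) := QQ (K' := E) hK r with hQK
  have h1 := frob_count (K' := E) hF hr0 QF (fun Q => mem_QQ hF hr0 Q)
  have h2 := frob_count (K' := E) hK hr0 QK (fun Q => mem_QQ hK hr0 Q)
  rw [← h1, ← h2]
  -- the inclusion of groups
  set ι : (E ≃ₐ[K] E) → (E ≃ₐ[F] E) := fun τ => τ.restrictScalars F with hι
  have hιinj : Function.Injective ι := AlgEquiv.restrictScalars_injective F
  set f : (E ≃ₐ[F] E) → ℕ := fun σ =>
    ∑ Q ∈ QF.filter (fun Q => IsFrob (σ.restrictScalars k) (Nat.card k ^ r) Q), Q.deg with hf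
  have hfB : ∀ σ, f σ ≤ B := by
    intro σ
    rw [hf]
    refine stepanov' hE a hq₀ Q₀ hQ₀ (σ.restrictScalars k) _ (fun Q hQ => ?_)
    rw [← hr]
    exact (Finset.mem_filter.mp hQ).2
  have hfι : ∀ τ : E ≃ₐ[K] E, f (ι τ) ≤
      ∑ Q ∈ QK.filter (fun Q => IsFrob (τ.restrictScalars k) (Nat.card k ^ r) Q), Q.deg := by
    intro τ
    rw [hf]
    refine Finset.sum_le_sum_of_subset (fun Q hQ => ?_)
    obtain ⟨-, hQ2⟩ := Finset.mem_filter.mp hQ
    have hQ3 : IsFrob (τ.restrictScalars k) (Nat.card k ^ r) Q := hQ2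
    rw [Finset.mem_filter]
    refine ⟨?_, hQ3⟩
    rw [hQK, mem_QQ hK hr0]
    exact deg_dvd_of_frob (isOver_below Q)
      (deg_pos_w (isFFw_of_isFunctionField hK) _) hQ3
  change ∑ σ : E ≃ₐ[F] E, f σ ≤ _
  rw [← Finset.sum_add_sum_compl (Finset.univ.image ι) f, Finset.sum_image (fun _ _ _ _ h => hιinj h)]
  refine add_le_add (Finset.sum_le_sum fun τ _ => hfι τ) ?_
  calc ∑ σ ∈ (Finset.univ.image ι)ᶜ, f σ ≤ ∑ σ ∈ (Finset.univ.image ι)ᶜ, B :=
        Finset.sum_le_sum fun σ _ => hfB σ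
    _ = (Module.finrank F E - Module.finrank K E) * B := by
      rw [Finset.sum_const, smul_eq_mul, Finset.card_compl,
        Finset.card_image_of_injective _ hιinj, Finset.card_univ,
        ← Nat.card_eq_fintype_card, ← Nat.card_eq_fintype_card,
        IsGalois.card_aut_eq_finrank, IsGalois.card_aut_eq_finrank]

end Main

end Groth.Agent.Helper9.HW
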