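import Mathlib

/-! Hasse–Weil, part 4: an analytic lemma (simultaneous recurrence of unit complex numbers). -/

namespace Groth.Agent.Helper9.HW

open Filter Topology

/-- simultaneous recurrence: powers of finitely many unit complex numbers come back close to `1` -/
theorem exists_pow_near_one {m : ℕ} (u : Fin m → ℂ) (hu : ∀ i, ‖u i‖ = 1) (t : ℕ)
    {ε : ℝ} (hε : 0 < ε) : ∃ d : ℕ, 1 ≤ d ∧ ∀ i, ‖u i ^ (t * d) - 1‖ < ε := by
  set x : ℕ → (Fin m → ℂ) := fun j i => u i ^ (t * j) with hx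
  have hmem : ∀ j, x j ∈ Metric.closedBall (0 : Fin m → ℂ) 1 := by
    intro j
    rw [mem_closedBall_zero_iff, pi_norm_le_iff_of_nonneg zero_le_one]
    intro i
    rw [hx]
    simp only [norm_pow, hu i, one_pow, le_refl]
  obtain ⟨a, -, φ, hφ, hlim⟩ := (isCompact_closedBall (0 : Fin m → ℂ) 1).tendsto_subseq hmem
  rw [Metric.tendsto_atTop] at hlim
  obtain ⟨N, hN⟩ := hlim (ε / 2) (half_pos hε)
  have h1 := hN N le_rfl
  have h2 := hN (N + 1) (Nat.le_succ N)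
  have hlt : φ N < φ (N + 1) := hφ (Nat.lt_succ_self N)
  refine ⟨φ (N + 1) - φ N, by omega, fun i => ?_⟩
  have h3 : dist (x (φ (N + 1))) (x (φ N)) < ε := by
    calc dist (x (φ (N + 1))) (x (φ N)) ≤ dist (x (φ (N + 1))) a + dist a (x (φ N)) :=
          dist_triangle _ _ _
      _ < ε / 2 + ε / 2 := by
          rw [dist_comm a]
          exact add_lt_add h2 h1
      _ = ε := by ring
  have h4 : dist (x (φ (N + 1)) i) (x (φ N) i) < ε :=
    lt_of_le_of_lt (dist_le_pi_dist _ _ i) h3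
  rw [hx, dist_eq_norm] at h4
  simp only at h4
  have h5 : u i ^ (t * φ (N + 1)) - u i ^ (t * φ N) =
      u i ^ (t * φ N) * (u i ^ (t * (φ (N + 1) - φ N)) - 1) := by
    rw [mul_sub, mul_one, ← pow_add, ← mul_add]
    congr 3
    omega
  rw [h5, norm_mul, norm_pow, hu i, one_pow, one_mul] at h4
  exact h4

theorem re_ge_of_norm_sub_one_le {w : ℂ} (h : ‖w - 1‖ ≤ 1 / 2) : 1 / 2 ≤ w.re := by
  have h1 : (w - 1).re ≥ -‖w - 1‖ := by
    have := Complex.abs_re_le_norm (w - 1)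
    have h2 := neg_abs_le (w - 1).re
    linarith
  rw [Complex.sub_re, Complex.one_re] at h1
  linarith

/-- if `Re ∑ αᵢⁿ ≤ C bⁿ` along multiples of `t`, then all `|αᵢ| ≤ b` -/
theorem norm_le_of_sum_pow_le {m : ℕ} (α : Fin m → ℂ) {b C : ℝ} (hb : 0 < b) {t : ℕ} (ht : 0 < t)
    (h : ∀ d : ℕ, 1 ≤ d → (∑ i, α i ^ (t * d)).re ≤ C * b ^ (t * d)) (i₀ : Fin m) :
    ‖α i₀‖ ≤ b := by
  by_contra hcon
  push Not at hcon
  set ρ := ‖α i₀‖ with hρ
  have hρb : 1 < ρ / b := by rwa [one_lt_div hb]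
  obtain ⟨d₀, hd₀⟩ := pow_unbounded_of_one_lt (2 * C) hρb
  -- unit vectors
  set u : Fin m → ℂ := fun i => if α i = 0 then 1 else α i / (‖α i‖ : ℂ) with hu
  have hu1 : ∀ i, ‖u i‖ = 1 := by
    intro i
    rw [hu]
    simp only
    split_ifs with h0
    · exact norm_one
    · rw [norm_div, Complex.norm_real, norm_norm, div_self (norm_ne_zero_iff.mpr h0)]
  have hαu : ∀ i, α i = (‖α i‖ : ℂ) * u i := by
    intro i
    rw [hu]
    simp only
    split_ifs with h0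
    · rw [h0, norm_zero]; simp
    · rw [mul_div_cancel₀]
      exact_mod_cast norm_ne_zero_iff.mpr h0
  have htd : 0 < t * (d₀ + 1) := Nat.mul_pos ht (Nat.succ_pos _)
  obtain ⟨d, hd1, hd⟩ := exists_pow_near_one u hu1 (t * (d₀ + 1)) (half_pos one_pos)
  set n := t * ((d₀ + 1) * d) with hn
  have hn' : n = t * (d₀ + 1) * d := by rw [hn, mul_assoc]
  have h1 := h ((d₀ + 1) * d) (Nat.mul_pos (Nat.succ_pos _) hd1)
  rw [← hn] at h1
  have hre : ∀ i, (1 / 2 : ℝ) * ‖α i‖ ^ n ≤ (α i ^ n).re := by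
    intro i
    have h2 := re_ge_of_norm_sub_one_le (hd i).le
    rw [← hn'] at h2
    have h3 : α i ^ n = ((‖α i‖ ^ n : ℝ) : ℂ) * u i ^ n := by
      conv_lhs => rw [hαu i, mul_pow]
      push_cast
      rfl
    rw [h3, Complex.re_ofReal_mul]
    have h4 : (0 : ℝ) ≤ ‖α i‖ ^ n := by positivity
    nlinarith
  have h5 : (1 / 2 : ℝ) * ρ ^ n ≤ (∑ i, α i ^ n).re := by
    rw [Complex.re_sum]
    calc (1 / 2 : ℝ) * ρ ^ n ≤ (α i₀ ^ n).re := hre i₀
      _ ≤ ∑ i, (α i ^ n).re := by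
        refine Finset.single_le_sum (f := fun i => (α i ^ n).re) (fun i _ => ?_) (Finset.mem_univ i₀)
        have := hre i
        have h4 : (0 : ℝ) ≤ ‖α i‖ ^ n := by positivity
        linarith
  have h6 : (ρ / b) ^ n ≤ 2 * C := by
    rw [div_pow, div_le_iff₀ (by positivity)]
    linarith
  have h7 : (ρ / b) ^ d₀ ≤ (ρ / b) ^ n := by
    apply pow_le_pow_right₀ hρb.le
    rw [hn]
    calc d₀ ≤ (d₀ + 1) * d := by nlinarith
      _ ≤ t * ((d₀ + 1) * d) := Nat.le_mul_of_pos_left _ ht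
  linarith

end Groth.Agent.Helper9.HW
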