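import Mathlib
import Groth.Agent.Lib.Helper9.Zeta.FKS
import Groth.Agent.Lib.Helper9.Zeta.CE4

/-! Hasse–Weil, part 5: Galois closure (abstract form). -/

namespace Groth.Agent.Helper9.HW

universe u v

open IntermediateField

theorem exists_galois_closure (F : Type u) (K : Type v) [Field F] [Field K] [Algebra F K]
    [FiniteDimensional F K] [Algebra.IsSeparable F K] :
    ∃ (E : Type v) (_ : Field E) (_ : Algebra F E) (_ : Algebra K E) (_ : IsScalarTower F K E),
      FiniteDimensional F E ∧ IsGalois F E := by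
  have hnorm : Normal F (AlgebraicClosure K) := by
    have : IsAlgClosure F (AlgebraicClosure K) := IsAlgClosure.ofAlgebraic F K (AlgebraicClosure K)
    exact IsAlgClosure.normal F (AlgebraicClosure K)
  refine ⟨normalClosure F K (AlgebraicClosure K), inferInstance, inferInstance, inferInstance,
    inferInstance, inferInstance, ?_⟩
  have hsep : Algebra.IsSeparable F (normalClosure F K (AlgebraicClosure K)) := by
    rw [normalClosure_def]
    have : ∀ f : K →ₐ[F] AlgebraicClosure K, Algebra.IsSeparable F f.fieldRange := by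
      intro f
      exact AlgEquiv.Algebra.isSeparable (AlgEquiv.ofInjectiveField f)
    exact IntermediateField.isSeparable_iSup F (AlgebraicClosure K)
  exact ⟨⟩

/-- Galois closure over an intermediate field, with the canonical algebra structure -/
theorem exists_galois_closure' {k : Type u} {K : Type v} [Field k] [Field K] [Algebra k K]
    (S : IntermediateField k K) [FiniteDimensional S K] [Algebra.IsSeparable S K] :
    ∃ (E : Type v) (_ : Field E) (_ : Algebra K E), FiniteDimensional S E ∧ IsGalois S E := by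
  obtain ⟨E, instE, algSE, algKE, tow, hfin, hgal⟩ := exists_galois_closure S K
  have heq : algSE = S.instAlgebraSubtypeMem := by
    apply Algebra.algebra_ext
    intro r
    rw [IsScalarTower.algebraMap_apply S K E]
    rfl
  subst heq
  exact ⟨E, instE, algKE, hfin, hgal⟩

section RP

open FunFld Groth.Agent.Lib.Helper4.FF Groth.Agent.Helper9.FFExt Groth.Agent.Helper9.Zeta Polynomial

/-- a constant field extension with a rational place -/
theorem exists_constExt_rational {k₁ : Type u} {E₀ : Type v} [Field k₁] [Finite k₁] [Field E₀]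
    [Algebra k₁ E₀] (hE₀ : IsFunctionField k₁ E₀) :
    ∃ (k₂ : Type u) (_ : Field k₂) (_ : Finite k₂) (E₂ : Type v) (_ : Field E₂)
      (_ : Algebra k₁ k₂) (_ : Algebra E₀ E₂) (_ : Algebra k₂ E₂),
      IsConstExt k₁ E₀ k₂ E₂ ∧ IsFunctionField k₂ E₂ ∧ ∃ Q₀ : Place k₂ E₂, Q₀.deg = 1 := by
  classical
  obtain ⟨x, hxt, -⟩ := hE₀.1
  obtain ⟨P, -⟩ := exists_zero hE₀ hxt
  have hd0 : 0 < P.deg := Place.deg_pos hE₀ P
  obtain ⟨μ, hmon, hirr, hdeg⟩ := exists_irreducible_of_degree k₁ P.deg hd0
  have hirr' : Irreducible (μ.map (algebraMap k₁ E₀)) :=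
    irreducible_map_of_algClosedIn hE₀.2 hirr hmon
  have := Fact.mk hirr
  have := Fact.mk hirr'
  letI := ceAlg (K := E₀) μ
  have htower := ce_tower (K := E₀) μ
  have hbij := ce_bijective (K := E₀) μ hmon
  have hfr : Module.finrank k₁ (AdjoinRoot μ) = P.deg := by
    rw [← hdeg]
    exact (AdjoinRoot.powerBasis hirr.ne_zero).finrank
  have hfin : FiniteDimensional k₁ (AdjoinRoot μ) := (AdjoinRoot.powerBasis hirr.ne_zero).finite
  have hsep : Algebra.IsSeparable k₁ (AdjoinRoot μ) := inferInstance
  have hfink₂ : Finite (AdjoinRoot μ) := Module.finite_of_finite k₁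
  refine ⟨AdjoinRoot μ, inferInstance, hfink₂, AdjoinRoot (μ.map (algebraMap k₁ E₀)), inferInstance,
    inferInstance, inferInstance, inferInstance, ⟨?_, ?_, ?_⟩, isFunctionField_constExt hbij hE₀, ?_⟩
  · intro c
    rw [AdjoinRoot.algebraMap_eq, AdjoinRoot.algebraMap_eq, ceAlg_of]
  · rw [eq_top_iff, ← AdjoinRoot.adjoinRoot_eq_top]
    apply Algebra.adjoin_mono
    rintro _ rfl
    exact ⟨AdjoinRoot.root μ, ceAlg_root μ⟩
  · exact finrank_of_bij hbij
  · obtain ⟨hfinS, hcard⟩ := card_over hbij hE₀.1 P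
    rw [hfr, Nat.gcd_self] at hcard
    have hne : Nonempty {Q : Place k₁ (AdjoinRoot (μ.map (algebraMap k₁ E₀))) // IsOver Q P} := by
      have hfinT : Finite {Q : Place k₁ (AdjoinRoot (μ.map (algebraMap k₁ E₀))) // IsOver Q P} :=
        hfinS.to_subtype
      rw [← Finite.card_pos_iff, hcard]
      exact hd0
    obtain ⟨Q, hQ⟩ := hne
    refine ⟨upC Q, ?_⟩
    have h1 := deg_upC_mul hbij hE₀.1 hQ
    rw [hfr, Nat.lcm_self] at h1
    exact Nat.eq_of_mul_eq_mul_left hd0 (by rw [h1, mul_one])

end RP

end Groth.Agent.Helper9.HW
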