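import Mathlib
import Groth.Agent.Lib.Helper9.Zeta.CE4

/-! Hasse–Weil, part 6: composita with a finite constant field inside a big field. -/

namespace Groth.Agent.Helper9.HW

open FunFld Groth.Agent.Lib.Helper4.FF Groth.Agent.Helper9.FFExt Groth.Agent.Helper9.Zeta Polynomial
open IntermediateField

section Cmp

variable (k M k' E : Type*) [Field k] [Field M] [Field k'] [Field E]
  [Algebra k M] [Algebra k k'] [Algebra M E] [Algebra k' E] [Algebra k E]
  [IsScalarTower k M E] [IsScalarTower k k' E]

/-- the compositum `M k'` inside `E` -/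
noncomputable def cmpF : IntermediateField M E :=
  IntermediateField.adjoin M (Set.range (algebraMap k' E))

noncomputable instance cmpAlg : Algebra k' (cmpF M k' E) :=
  ((algebraMap k' E).codRestrict (cmpF M k' E)
    (fun c => IntermediateField.subset_adjoin _ _ ⟨c, rfl⟩)).toAlgebra

instance cmpTower : IsScalarTower k' (cmpF M k' E) E := IsScalarTower.of_algebraMap_eq (fun _ => rfl)

instance cmpTower2 : IsScalarTower k k' (cmpF M k' E) := IsScalarTower.of_algebraMap_eq (fun c => by
  apply Subtype.ext
  change algebraMap k E c = algebraMap k' E (algebraMap k k' c)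
  rw [← IsScalarTower.algebraMap_apply])

instance cmpTower3 : IsScalarTower k (cmpF M k' E) E := IsScalarTower.of_algebraMap_eq (fun _ => rfl)

end Cmp

section ConstExt

variable {k M k' E : Type*} [Field k] [Field M] [Field k'] [Field E]
  [Algebra k M] [Algebra k k'] [Algebra M E] [Algebra k' E] [Algebra k E]
  [IsScalarTower k M E] [IsScalarTower k k' E]
  [FiniteDimensional k k'] [Algebra.IsSeparable k k']

variable (k) in
omit [Algebra.IsSeparable k k'] in
include k in
theorem isAlgebraic_range (c : k') : IsAlgebraic M (algebraMap k' E c) := by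
  have h1 : IsAlgebraic k c := Algebra.IsAlgebraic.isAlgebraic c
  have h2 : IsAlgebraic k (algebraMap k' E c) := h1.algebraMap
  exact h2.tower_top M

variable (k) in
omit [Algebra.IsSeparable k k'] in
include k in
theorem adjoin_range_eq_top :
    Algebra.adjoin M (Set.range (algebraMap k' (cmpF M k' E))) = ⊤ := by
  apply Subalgebra.map_injective (f := (cmpF M k' E).val) Subtype.val_injective
  rw [AlgHom.map_adjoin, Algebra.map_top, ← Set.range_comp]
  have h1 : ((cmpF M k' E).val : cmpF M k' E → E) ∘ (algebraMap k' (cmpF M k' E)) =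
      algebraMap k' E := rfl
  rw [h1, IntermediateField.range_val]
  unfold cmpF
  rw [IntermediateField.adjoin_toSubalgebra_of_isAlgebraic]
  rintro _ ⟨c, rfl⟩
  exact isAlgebraic_range k c

theorem finrank_cmpF (hcl : ∀ y : M, IsAlgebraic k y → y ∈ Set.range (algebraMap k M)) :
    Module.finrank M (cmpF M k' E) = Module.finrank k k' := by
  obtain ⟨γ, hγ⟩ := Field.exists_primitive_element k k'
  set γE : E := algebraMap k' E γ with hγE
  have hint : IsIntegral k γ := Algebra.IsIntegral.isIntegral γ
  have hintE : IsIntegral M γE := (isAlgebraic_range k (M := M) γ).isIntegral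
  have hcmp : cmpF M k' E = M⟮γE⟯ := by
    unfold cmpF
    apply le_antisymm
    · rw [IntermediateField.adjoin_le_iff]
      rintro _ ⟨c, rfl⟩
      have hc : c ∈ k⟮γ⟯ := by rw [hγ]; exact IntermediateField.mem_top
      have hc' : c ∈ (k⟮γ⟯).toSubalgebra := hc
      rw [IntermediateField.adjoin_simple_toSubalgebra_of_isAlgebraic hint.isAlgebraic,
        Algebra.adjoin_singleton_eq_range_aeval] at hc'
      obtain ⟨p, rfl⟩ := hc'
      have h1 : algebraMap k' E (aeval γ p) = aeval γE p := by
        rw [hγE, Polynomial.aeval_algebraMap_apply]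
      change algebraMap k' E (aeval γ p) ∈ M⟮γE⟯
      rw [h1]
      have h2 : aeval γE p ∈ Algebra.adjoin k {γE} := Polynomial.aeval_mem_adjoin_singleton k γE
      have h3 : Algebra.adjoin k {γE} ≤ (M⟮γE⟯.restrictScalars k).toSubalgebra := by
        apply Algebra.adjoin_le
        rintro _ rfl
        exact IntermediateField.mem_adjoin_simple_self M γE
      exact h3 h2
    · rw [IntermediateField.adjoin_le_iff]
      rintro _ rfl
      exact IntermediateField.subset_adjoin _ _ ⟨γ, rfl⟩
  rw [hcmp, IntermediateField.adjoin.finrank hintE]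
  have hirr : Irreducible ((minpoly k γ).map (algebraMap k M)) :=
    irreducible_map_of_algClosedIn hcl (minpoly.irreducible hint) (minpoly.monic hint)
  have hroot : aeval γE ((minpoly k γ).map (algebraMap k M)) = 0 := by
    rw [Polynomial.aeval_map_algebraMap, hγE, Polynomial.aeval_algebraMap_apply, minpoly.aeval,
      map_zero]
  have hmin := minpoly.eq_of_irreducible_of_monic hirr hroot ((minpoly.monic hint).map _)
  rw [← hmin, Polynomial.natDegree_map]
  have h1 := IntermediateField.adjoin.finrank hint
  rw [hγ, IntermediateField.finrank_top'] at h1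
  exact h1.symm

theorem isConstExt_cmpF (hcl : ∀ y : M, IsAlgebraic k y → y ∈ Set.range (algebraMap k M)) :
    IsConstExt k M k' (cmpF M k' E) := by
  refine ⟨fun c => ?_, adjoin_range_eq_top k, finrank_cmpF hcl⟩
  apply Subtype.ext
  change algebraMap M E (algebraMap k M c) = algebraMap k' E (algebraMap k k' c)
  rw [← IsScalarTower.algebraMap_apply, ← IsScalarTower.algebraMap_apply]

theorem isFunctionField_cmpF (hM : IsFunctionField k M) : IsFunctionField k' (cmpF M k' E) :=
  isFunctionField_constExt (bijective_pm_of_adjoin (adjoin_range_eq_top k) (finrank_cmpF hM.2)) hM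

end ConstExt

section Tower

variable {F K k' E : Type*} [Field F] [Field K] [Field k'] [Field E]
  [Algebra F K] [Algebra F E] [Algebra K E] [Algebra k' E] [IsScalarTower F K E]

theorem cmpF_le (z : E) (hz : z ∈ cmpF F k' E) : z ∈ cmpF K k' E := by
  have h : IntermediateField.adjoin F (Set.range (algebraMap k' E)) ≤
      (IntermediateField.adjoin K (Set.range (algebraMap k' E))).restrictScalars F := by
    rw [IntermediateField.adjoin_le_iff]
    rintro _ ⟨c, rfl⟩
    exact IntermediateField.subset_adjoin K _ ⟨c, rfl⟩
  have h2 := h hz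
  rw [IntermediateField.mem_restrictScalars] at h2
  exact h2

noncomputable instance cmpFAlg2 : Algebra (cmpF F k' E) (cmpF K k' E) :=
  ((algebraMap (cmpF F k' E) E).codRestrict (cmpF K k' E) (fun z => cmpF_le z.1 z.2)).toAlgebra

instance cmpFTower4 : IsScalarTower (cmpF F k' E) (cmpF K k' E) E :=
  IsScalarTower.of_algebraMap_eq (fun _ => rfl)

instance cmpFTower5 : IsScalarTower k' (cmpF F k' E) (cmpF K k' E) :=
  IsScalarTower.of_algebraMap_eq (fun _ => rfl)

end Tower

section Galois

variable {F E₀ k' E : Type*} [Field F] [Field E₀] [Field k'] [Finite k'] [Field E]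
  [Algebra F E₀] [Algebra E₀ E] [Algebra F E] [IsScalarTower F E₀ E] [Algebra k' E]
  [FiniteDimensional F E₀] [IsGalois F E₀]

theorem galois_cmpF (hint : ∀ c : k', IsIntegral F (algebraMap k' E c))
    (hgen : Algebra.adjoin E₀ (Set.range (algebraMap k' E)) = ⊤) :
    FiniteDimensional (cmpF F k' E) E ∧ IsGalois (cmpF F k' E) E := by
  set K₀ : IntermediateField F E := (IsScalarTower.toAlgHom F E₀ E).fieldRange with hK₀
  set e : E₀ ≃ₐ[F] K₀ := AlgEquiv.ofInjectiveField (IsScalarTower.toAlgHom F E₀ E) with he
  have hgalK₀ : IsGalois F K₀ := IsGalois.of_algEquiv e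
  have hfinK₀ : FiniteDimensional F K₀ := Module.Finite.equiv e.toLinearEquiv
  set L : IntermediateField F E := cmpF F k' E with hL
  have hfinL : FiniteDimensional F L := by
    rw [hL]
    unfold cmpF
    have : Finite (Set.range (algebraMap k' E)) := Set.finite_range _
    apply IntermediateField.finiteDimensional_adjoin
    rintro _ ⟨c, rfl⟩
    exact hint c
  have hsup : K₀ ⊔ L = ⊤ := by
    rw [eq_top_iff]
    rintro z -
    have hz : z ∈ Algebra.adjoin E₀ (Set.range (algebraMap k' E)) := by
      rw [hgen]; exact Algebra.mem_top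
    induction hz using Algebra.adjoin_induction with
    | mem x hx =>
      have : x ∈ L := IntermediateField.subset_adjoin _ _ hx
      exact (le_sup_right : L ≤ K₀ ⊔ L) this
    | algebraMap r =>
      have : algebraMap E₀ E r ∈ K₀ := ⟨r, rfl⟩
      exact (le_sup_left : K₀ ≤ K₀ ⊔ L) this
    | add x y _ _ hx hy => exact add_mem hx hy
    | mul x y _ _ hx hy => exact mul_mem hx hy
  have hgal : IsGalois L E := IsGalois.sup_right K₀ L hsup
  have hfinsup : FiniteDimensional F (K₀ ⊔ L : IntermediateField F E) :=
    IntermediateField.finiteDimensional_sup K₀ L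
  have hfinE : FiniteDimensional F E := by
    rw [hsup] at hfinsup
    exact Module.Finite.equiv (IntermediateField.topEquiv (F := F) (E := E)).toLinearEquiv
  exact ⟨FiniteDimensional.right F L E, hgal⟩

end Galois

end Groth.Agent.Helper9.HW
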