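import Mathlib
import Groth.Agent.Lib.Helper9.HW.HW3
import Groth.Agent.Lib.Helper9.HW.HW4
import Groth.Agent.Lib.Helper9.HW.HW5
import Groth.Agent.Lib.Helper9.HW.HW6
import Groth.Agent.Lib.Helper9.Zeta.Zeta6
import Groth.Agent.Lib.Helper9.FFExt.SepVar
import Groth.Agent.Lib.Helper9.FFExt.Const
import Groth.Agent.Lib.Helper4.FF.Rational

/-! Hasse–Weil, part 7: assembly. -/

namespace Groth.Agent.Helper9.HW

open FunFld Groth.Agent.Lib.Helper4.FF Groth.Agent.Helper9.FFExt Groth.Agent.Helper9.Zeta Polynomial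
open IntermediateField

section RatSub

variable {k K : Type*} [Field k] [Field K] [Algebra k K]

theorem adjoin_gen_eq_top (t : K) :
    IntermediateField.adjoin k ({(⟨t, IntermediateField.mem_adjoin_simple_self k t⟩ : k⟮t⟯)} :
      Set k⟮t⟯) = ⊤ := by
  apply IntermediateField.map_injective (k⟮t⟯).val
  rw [IntermediateField.adjoin_map, Set.image_singleton, ← AlgHom.fieldRange_eq_map,
    IntermediateField.fieldRange_val]
  rfl

theorem isFunctionField_simple (hK : IsFunctionField k K) {t : K} (ht : Transcendental k t) :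
    IsFunctionField k k⟮t⟯ ∧ genus k k⟮t⟯ = 0 := by
  set x : k⟮t⟯ := ⟨t, IntermediateField.mem_adjoin_simple_self k t⟩ with hx
  have htop : IntermediateField.adjoin k ({x} : Set k⟮t⟯) = ⊤ := adjoin_gen_eq_top t
  have hxt : Transcendental k x := by
    intro halg
    exact ht (halg.algebraMap (A := K))
  have hF : IsFunctionField k k⟮t⟯ := by
    refine ⟨⟨x, hxt, ?_⟩, ?_⟩
    · rw [htop]
      refine Module.Finite.of_surjective
        (Algebra.linearMap (⊤ : IntermediateField k k⟮t⟯) k⟮t⟯) ?_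
      intro z
      exact ⟨⟨z, IntermediateField.mem_top⟩, rfl⟩
    · intro y hy
      have h1 : IsAlgebraic k (y : K) := hy.algebraMap (A := K)
      obtain ⟨c, hc⟩ := hK.2 _ h1
      exact ⟨c, Subtype.ext hc⟩
  exact ⟨hF, genus_eq_zero_of_adjoin_eq_top hF htop⟩

theorem Ncount_of_genus_zero [Finite k] (hK : IsFunctionField k K) (hg : genus k K = 0) {n : ℕ}
    (hn : 1 ≤ n) : Ncount k K n = Nat.card k ^ n + 1 := by
  obtain ⟨α, -, hα, -⟩ := exists_alpha hK
  have h1 := Ncount_formula hK α hα hn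
  have hemp : IsEmpty (Fin (2 * genus k K)) := by
    rw [hg]
    exact Fin.isEmpty'
  rw [Finset.univ_eq_empty, Finset.sum_empty, sub_zero] at h1
  have h2 : ((Ncount k K n : ℕ) : ℂ) = ((Nat.card k ^ n + 1 : ℕ) : ℂ) := by
    rw [h1]
    push_cast
    ring
  exact_mod_cast h2

end RatSub

section Assembly

universe u v

variable {k : Type u} {K : Type v} [Field k] [Finite k] [Field K] [Algebra k K]

theorem isSeparable_residue (hK : IsFFw k K) (P : Place k K) :
    Algebra.IsSeparable k (IsLocalRing.ResidueField P.O) := by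
  have hfin : @Module.Finite k (IsLocalRing.ResidueField P.O) _ _ (Place.algRes P).toModule :=
    Module.finite_of_finrank_pos (deg_pos_w hK P)
  have halg : @Algebra.IsAlgebraic k (IsLocalRing.ResidueField P.O) _ _ (Place.algRes P) :=
    @Algebra.IsAlgebraic.of_finite k _ _ _ _ (Place.algRes P) hfin
  exact Algebra.IsAlgebraic.isSeparable_of_perfectField

theorem exists_lower_bound (hK : IsFunctionField k K) :
    ∃ s C j₀ : ℕ, 0 < s ∧ 0 < j₀ ∧ ∀ j : ℕ, j₀ ≤ j →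
      Nat.card k ^ (2 * s * j) ≤ Ncount k K (2 * s * j) + C * Nat.card k ^ (s * j) := by
  classical
  -- 1. a separating element
  obtain ⟨x₀, hx₀t, -⟩ := hK.1
  obtain ⟨P, -⟩ := exists_zero hK hx₀t
  obtain ⟨t, ht⟩ := Place.exists_uniformizer P
  have hsepP : Algebra.IsSeparable k (IsLocalRing.ResidueField P.O) := isSeparable_residue hK.1 P
  obtain ⟨htr, hsep⟩ := sep_of_uniformizer hK.1 P t ht
  obtain ⟨hF₀, hgF₀⟩ := isFunctionField_simple hK htr
  have hfinK : FiniteDimensional k⟮t⟯ K := finiteDimensional_adjoin hK htr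
  -- 2. the Galois closure
  obtain ⟨E₀, instE₀, algKE₀, hfinE₀, hgalE₀⟩ := exists_galois_closure' k⟮t⟯
  letI : Algebra k E₀ := ((algebraMap K E₀).comp (algebraMap k K)).toAlgebra
  have towkKE₀ : IsScalarTower k K E₀ := IsScalarTower.of_algebraMap_eq fun _ => rfl
  have hfinKE₀ : FiniteDimensional K E₀ := FiniteDimensional.right k⟮t⟯ K E₀
  have hE₀w : IsFFw k E₀ := isFFw_of_finite E₀ hK.1
  -- 3. the constant field of `E₀`
  obtain ⟨x, hxt, hxfin⟩ := hE₀w
  have hE₀ : IsFunctionField (kc k E₀) E₀ := isFunctionField_kc hxt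
  have hfink₁ : FiniteDimensional k (kc k E₀) := finite_kc hxt
  have hFink₁ : Finite (kc k E₀) := Module.finite_of_finite k
  -- 4. a constant extension with a rational place
  obtain ⟨k₂, instk₂, fink₂, E₂, instE₂, algk₁k₂, algE₀E₂, algk₂E₂, hce, hE₂, Q₀, hQ₀⟩ :=
    exists_constExt_rational hE₀
  -- algebra structures
  letI algkk₂ : Algebra k k₂ := ((algebraMap (kc k E₀) k₂).comp (algebraMap k (kc k E₀))).toAlgebra
  letI algkE₂ : Algebra k E₂ := ((algebraMap k₂ E₂).comp (algebraMap k k₂)).toAlgebra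
  have towkk₂E₂ : IsScalarTower k k₂ E₂ := IsScalarTower.of_algebraMap_eq fun _ => rfl
  letI algKE₂ : Algebra K E₂ := ((algebraMap E₀ E₂).comp (algebraMap K E₀)).toAlgebra
  have towKE₀E₂ : IsScalarTower K E₀ E₂ := IsScalarTower.of_algebraMap_eq fun _ => rfl
  have towFE₀E₂ : IsScalarTower k⟮t⟯ E₀ E₂ := IsScalarTower.of_algebraMap_eq fun _ => rfl
  have towkKE₂ : IsScalarTower k K E₂ := IsScalarTower.of_algebraMap_eq fun c => by
    change algebraMap k₂ E₂ (algebraMap (kc k E₀) k₂ (algebraMap k (kc k E₀) c)) =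
      algebraMap E₀ E₂ (algebraMap K E₀ (algebraMap k K c))
    rw [← hce.1]
    rfl
  have towkFE₂ : IsScalarTower k k⟮t⟯ E₂ := IsScalarTower.of_algebraMap_eq fun c => by
    rw [IsScalarTower.algebraMap_apply k K E₂]
    rfl
  have hfink₂ : FiniteDimensional k k₂ := Module.Finite.of_finite
  have hsepk₂ : Algebra.IsSeparable k k₂ := Algebra.IsAlgebraic.isSeparable_of_perfectField
  -- 5. the composita
  have hceF : IsConstExt k k⟮t⟯ k₂ (cmpF k⟮t⟯ k₂ E₂) := isConstExt_cmpF hF₀.2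
  have hceK : IsConstExt k K k₂ (cmpF K k₂ E₂) := isConstExt_cmpF hK.2
  have hF' : IsFunctionField k₂ (cmpF k⟮t⟯ k₂ E₂) := isFunctionField_cmpF hF₀
  have hK' : IsFunctionField k₂ (cmpF K k₂ E₂) := isFunctionField_cmpF hK
  have hint : ∀ c : k₂, IsIntegral k⟮t⟯ (algebraMap k₂ E₂ c) :=
    fun c => (isAlgebraic_range k (M := k⟮t⟯) c).isIntegral
  obtain ⟨hfinF', hgalF'⟩ := galois_cmpF (F := k⟮t⟯) (E₀ := E₀) (k' := k₂) (E := E₂) hint hce.2.1
  have hfinK' : FiniteDimensional (cmpF K k₂ E₂) E₂ := FiniteDimensional.right (cmpF k⟮t⟯ k₂ E₂) _ _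
  -- 6. numerical data
  obtain ⟨p, hcharp⟩ := CharP.exists k₂
  have hFt := Fintype.ofFinite k₂
  have hp : p.Prime := CharP.char_is_prime k₂ p
  have hpF := Fact.mk hp
  obtain ⟨b, -, hb⟩ := FiniteField.card k₂ p
  rw [← Nat.card_eq_fintype_card] at hb
  set s := Module.finrank k k₂ with hs
  have hs0 : 0 < s := Module.finrank_pos
  have hq' : Nat.card k₂ = Nat.card k ^ s := Module.natCard_eq_pow_finrank
  set g := genus k₂ E₂ with hg
  set n' := Module.finrank (cmpF k⟮t⟯ k₂ E₂) E₂ with hn'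
  set m' := Module.finrank (cmpF K k₂ E₂) E₂ with hm'
  have hm'pos : 0 < m' := Module.finrank_pos
  have hmn : m' ≤ n' := by
    rw [hn', ← Module.finrank_mul_finrank (cmpF k⟮t⟯ k₂ E₂) (cmpF K k₂ E₂) E₂]
    have hfinFK : FiniteDimensional (cmpF k⟮t⟯ k₂ E₂) (cmpF K k₂ E₂) :=
      FiniteDimensional.left (cmpF k⟮t⟯ k₂ E₂) (cmpF K k₂ E₂) E₂
    have : 0 < Module.finrank (cmpF k⟮t⟯ k₂ E₂) (cmpF K k₂ E₂) := Module.finrank_pos
    exact Nat.le_mul_of_pos_left _ this
  refine ⟨s, n' * (2 * g + 1), (g + 1) ^ 2 + 1, hs0, Nat.succ_pos _, fun j hj => ?_⟩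
  have hq2 : 2 ≤ Nat.card k₂ := Finite.one_lt_card
  have hbig : (g + 1) ^ 2 < p ^ ((b : ℕ) * j) := by
    rw [pow_mul, ← hb]
    calc (g + 1) ^ 2 < j := hj
      _ < 2 ^ j := Nat.lt_two_pow_self
      _ ≤ Nat.card k₂ ^ j := Nat.pow_le_pow_left hq2 j
  have hr : Nat.card k₂ ^ (2 * j) = (p ^ ((b : ℕ) * j)) ^ 2 := by
    rw [hb, ← pow_mul, ← pow_mul]
    congr 1
    ring
  have hj0 : 0 < j := by omega
  have hmain := main_estimate (k := k₂) (F := cmpF k⟮t⟯ k₂ E₂) (K := cmpF K k₂ E₂) (E := E₂)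
    hE₂ hF' hK' ((b : ℕ) * j) hbig (r := 2 * j) (by omega) hr Q₀ hQ₀
  rw [Ncount_of_isConstExt hF₀ hceF (by omega), Ncount_of_isConstExt hK hceK (by omega),
    Ncount_of_genus_zero hF₀ hgF₀ (Nat.mul_pos hs0 (by omega)), ← hs] at hmain
  have hX : p ^ ((b : ℕ) * j) = Nat.card k ^ (s * j) := by
    rw [pow_mul, ← hb, hq', ← pow_mul]
  rw [hX, ← hn', ← hm', ← hg] at hmain
  have hsj : s * (2 * j) = 2 * s * j := by ring
  rw [hsj] at hmain
  have hX2 : Nat.card k ^ (2 * s * j) = (Nat.card k ^ (s * j)) ^ 2 := by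
    rw [← pow_mul]
    congr 1
    ring
  rw [hX2] at hmain ⊢
  set X := Nat.card k ^ (s * j) with hXdef
  set N := Ncount k K (2 * s * j) with hN
  obtain ⟨d, hd⟩ : ∃ d, n' = m' + d := ⟨n' - m', by omega⟩
  have hd' : n' - m' = d := by omega
  rw [hd'] at hmain
  apply Nat.le_of_mul_le_mul_left _ hm'pos
  have h1 : d * ((2 * g + 1) * X) ≤ m' * (n' * (2 * g + 1) * X) := by
    have : d ≤ m' * n' := by
      calc d ≤ n' := by omega
        _ ≤ m' * n' := Nat.le_mul_of_pos_left _ hm'pos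
    calc d * ((2 * g + 1) * X) ≤ (m' * n') * ((2 * g + 1) * X) := Nat.mul_le_mul_right _ this
      _ = m' * (n' * (2 * g + 1) * X) := by ring
  rw [hd] at hmain
  nlinarith

end Assembly

section RH

variable {k : Type*} {K : Type*} [Field k] [Finite k] [Field K] [Algebra k K]

/-- **Hasse–Weil**: the reciprocal roots of the numerator of the zeta function have absolute value
`√q`. -/
theorem norm_alpha_le (hK : IsFunctionField k K) {m : ℕ} (α : Fin m → ℂ)
    (hα : PowerSeries.map (Int.castRingHom ℂ) (numerZ k K) =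
      ((∏ i, (1 - Polynomial.C (α i) * Polynomial.X) : Polynomial ℂ) : PowerSeries ℂ))
    (i₀ : Fin m) : ‖α i₀‖ ≤ Real.sqrt (Nat.card k) := by
  obtain ⟨s, C, j₀, hs, hj₀, hbound⟩ := exists_lower_bound hK
  have hq1 : (1 : ℝ) ≤ (Nat.card k : ℝ) := by exact_mod_cast Nat.card_pos
  have hb : 0 < Real.sqrt (Nat.card k) := Real.sqrt_pos.mpr (by linarith)
  have hb1 : 1 ≤ Real.sqrt (Nat.card k) := by
    rw [Real.one_le_sqrt]; exact hq1
  have ht : 0 < 2 * s * j₀ := by positivity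
  refine norm_le_of_sum_pow_le α (C := (C : ℝ) + 1) hb ht (fun d hd => ?_) i₀
  have hj : j₀ ≤ j₀ * d := Nat.le_mul_of_pos_right _ hd
  have h1 := hbound (j₀ * d) hj
  have hn : 2 * s * j₀ * d = 2 * s * (j₀ * d) := by ring
  have hn1 : 1 ≤ 2 * s * (j₀ * d) := by
    have : 0 < 2 * s * (j₀ * d) := by positivity
    omega
  have h2 := Ncount_formula hK α hα hn1
  have h3 : (∑ i, α i ^ (2 * s * (j₀ * d))) =
      ((1 + (Nat.card k : ℝ) ^ (2 * s * (j₀ * d)) - (Ncount k K (2 * s * (j₀ * d)) : ℝ) : ℝ) : ℂ) := by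
    push_cast
    rw [h2]
    ring
  rw [hn, h3, Complex.ofReal_re]
  have h4 : ((Nat.card k ^ (2 * s * (j₀ * d)) : ℕ) : ℝ) ≤
      ((Ncount k K (2 * s * (j₀ * d)) + C * Nat.card k ^ (s * (j₀ * d)) : ℕ) : ℝ) := by
    exact_mod_cast h1
  push_cast at h4
  have h5 : Real.sqrt (Nat.card k) ^ (2 * s * (j₀ * d)) = (Nat.card k : ℝ) ^ (s * (j₀ * d)) := by
    rw [mul_assoc, pow_mul, Real.sq_sqrt (by linarith)]
  rw [h5]
  have h6 : (1 : ℝ) ≤ (Nat.card k : ℝ) ^ (s * (j₀ * d)) := one_le_pow₀ hq1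
  nlinarith

theorem norm_alpha_eq (hK : IsFunctionField k K) :
    ∃ α : Fin (2 * genus k K) → ℂ,
      PowerSeries.map (Int.castRingHom ℂ) (numerZ k K) =
        ((∏ i, (1 - Polynomial.C (α i) * Polynomial.X) : Polynomial ℂ) : PowerSeries ℂ) ∧
      ∀ i, ‖α i‖ = Real.sqrt (Nat.card k) := by
  obtain ⟨α, -, hα, hpair⟩ := exists_alpha hK
  refine ⟨α, hα, fun i => ?_⟩
  have h1 := norm_alpha_le hK α hα i
  have h2 := norm_alpha_le hK α hα (Fin.rev i)
  have h3 : ‖α i‖ * ‖α (Fin.rev i)‖ = (Nat.card k : ℝ) := by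
    rw [← norm_mul, hpair i]
    simp
  have hq0 : (0 : ℝ) ≤ (Nat.card k : ℝ) := Nat.cast_nonneg _
  have h4 : Real.sqrt (Nat.card k) * Real.sqrt (Nat.card k) = (Nat.card k : ℝ) :=
    Real.mul_self_sqrt hq0
  have h5 : 0 ≤ ‖α (Fin.rev i)‖ := norm_nonneg _
  have h6 : 0 ≤ ‖α i‖ := norm_nonneg _
  have hb : 0 ≤ Real.sqrt (Nat.card k) := Real.sqrt_nonneg _
  by_contra hne
  have hlt : ‖α i‖ < Real.sqrt (Nat.card k) := lt_of_le_of_ne h1 hne
  have hq1 : (1 : ℝ) ≤ (Nat.card k : ℝ) := by exact_mod_cast Nat.card_pos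
  have hbpos : 0 < Real.sqrt (Nat.card k) := Real.sqrt_pos.mpr (by linarith)
  nlinarith

end RH

end Groth.Agent.Helper9.HW
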